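import Cfsg.Agent.Lib.Recog.CoOneThree.Local
import Cfsg.Agent.Lib.Recog.CoOneFive.Change

set_option autoImplicit false
set_option linter.unusedSectionVars false
set_option maxRecDepth 100000
set_option Elab.async false

/-!
The centraliser of the involution inside the centraliser of the element of order three (owner: helper22).
-/

namespace CfsgLib.Recog.CoOneThree

open CfsgLib.Recog.CoOneType CfsgLib.ThreeTrans

/-- the ordered pairs spanning anisotropic planes -/
@[irreducible] def pairs : List (Nat × Nat) :=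
  (List.range 256).flatMap fun u => ((List.range 256).filter fun v => qb u && qb v && bb u v).map (Prod.mk u)

theorem pairs_count : ((List.range 256).map fun u => ((List.range 256).filter fun v => qb u && qb v && bb u v).length).sum
    = 6720 := by decide +kernel

theorem mem_pairs {u v : Nat} : (u, v) ∈ pairs ↔ Anis u v := by
  unfold pairs
  rw [List.mem_flatMap]
  simp only [List.mem_map, List.mem_filter, List.mem_range, Bool.and_eq_true, Prod.mk.injEq]
  constructor
  · rintro ⟨u', hu, v', ⟨hv, ⟨h3, h4⟩, h5⟩, rfl, rfl⟩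
    exact ⟨hu, hv, h3, h4, h5⟩
  · intro A
    exact ⟨u, A.1, v, ⟨A.2, ⟨A.3, A.4⟩, A.5⟩, rfl, rfl⟩

theorem length_pairs : pairs.length = 6720 := by
  rw [← pairs_count]
  unfold pairs
  rw [List.length_flatMap]
  simp only [List.length_map]

theorem nodup_pairs : pairs.Nodup := by
  unfold pairs
  refine List.nodup_flatMap.2 ⟨fun u _ => ((List.nodup_range).filter _).map fun a b e => (Prod.mk.inj e).2, ?_⟩
  refine List.nodup_range.imp fun {u v} huv => ?_
  intro t ht ht'
  obtain ⟨a, -, rfl⟩ := List.mem_map.1 ht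
  obtain ⟨b, -, e⟩ := List.mem_map.1 ht'
  exact huv (Prod.mk.inj e).1.symm

variable {G : Type*} [Group G] [Finite G] {z : G} {Q : Subgroup G} {p : G → Nat} {k x : G} (S : Std z Q p k x)
include S

theorem Std.ne_one : x ≠ 1 := fun e =>
  absurd (S.frame.sys.acts_unique rot0_facts.1 rfl S.act (e ▸ S.frame.sys.acts_one)) (by decide +kernel)

theorem Std.pow_acts : ∀ i : ℕ, Acts z Q p (x ^ i) ([one, rot0, comp rot0 rot0].getD (i % 3) one) := by
  have h := S.frame.sys
  intro i
  have hx3 : x ^ 3 = 1 := by rw [pow_succ, pow_two, S.cube]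
  have : x ^ i = x ^ (i % 3) := by
    conv_lhs => rw [← Nat.div_add_mod i 3, pow_add, pow_mul, hx3, one_pow, one_mul]
  rw [this]
  have := Nat.mod_lt i (show 3 > 0 by norm_num)
  interval_cases i % 3
  · rw [pow_zero]; exact h.acts_one
  · rw [pow_one]; exact S.act
  · rw [pow_two]; exact h.acts_mul rot0_facts.1 S.act S.act

/-- an element of the centraliser fixing the two standard vectors -/
def Stab (z : G) (Q : Subgroup G) (p : G → Nat) (c : G) : Prop :=
  Commute c z ∧ ∀ a ∈ Q, p a = 12 ∨ p a = 52 → p (c * a * c⁻¹) = p a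

theorem stab_iff {c : G} {W : List Nat} (hc : Acts z Q p c W) :
    Stab z Q p c ↔ app W 12 = 12 ∧ app W 52 = 52 := by
  have h := S.frame.sys
  refine ⟨fun hs => ?_, fun e => ⟨hc.1, fun a ha hpa => ?_⟩⟩
  · obtain ⟨a, ha, pa⟩ := h.surj 12 (by norm_num)
    obtain ⟨b, hb, pb⟩ := h.surj 52 (by norm_num)
    refine ⟨?_, ?_⟩
    · have := hs.2 a ha (Or.inl pa)
      rwa [hc.2 a ha, pa] at this
    · have := hs.2 b hb (Or.inr pb)
      rwa [hc.2 b hb, pb] at this
  · rw [hc.2 a ha]
    rcases hpa with e' | e' <;> rw [e']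
    exacts [e.1, e.2]

/-- the stabiliser of the two standard vectors -/
def stabGroup : Subgroup G where
  carrier := {c | Stab z Q p c}
  one_mem' := ⟨Commute.one_left z, fun a _ _ => by rw [one_mul, inv_one, mul_one]⟩
  mul_mem' := by
    rintro c d hc hd
    refine ⟨hc.1.mul_left hd.1, fun a ha hpa => ?_⟩
    have hm := S.frame.sys.large.conj_mem hd.1 ha
    rw [show c * d * a * (c * d)⁻¹ = c * (d * a * d⁻¹) * c⁻¹ by group,
      hc.2 _ hm (by rw [hd.2 a ha hpa]; exact hpa), hd.2 a ha hpa]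
  inv_mem' := by
    rintro c hc
    refine ⟨hc.1.inv_left, fun a ha hpa => ?_⟩
    obtain ⟨A, -, hA⟩ := S.frame.sys.exists_acts hc.1
    have hm := S.frame.sys.large.conj_mem hc.1.inv_left ha
    refine S.frame.sys.app_inj hA (S.frame.sys.lt _ hm) (S.frame.sys.lt _ ha) ?_
    rw [← hA.2 _ hm, ← hA.2 a ha, hc.2 a ha hpa]
    congr 1
    group

/-- the complement of the group of order three -/
def compl : Subgroup G := stabGroup S ⊓ Subgroup.centralizer ({x} : Set G)

theorem mem_compl {c : G} : c ∈ compl S ↔ Stab z Q p c ∧ Commute c x := by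
  rw [compl, Subgroup.mem_inf, mem_centralizer_singleton_iff']
  exact Iff.rfl

theorem card_stab : Nat.card (stabGroup S) * 6720 = 2 ^ 9 * 174182400 := by
  classical
  have h := S.frame.sys
  have key : ∀ t : {t : Nat × Nat // t ∈ pairs.toFinset}, ∃ r : G, Commute r z ∧ ∀ a ∈ Q,
      (p a = 12 → p (r * a * r⁻¹) = t.1.1) ∧ (p a = 52 → p (r * a * r⁻¹) = t.1.2) := by
    rintro ⟨⟨u, v⟩, ht⟩
    have A : Anis u v := mem_pairs.1 (List.mem_toFinset.1 ht)
    obtain ⟨W, c, -, hc, hu, hv⟩ := A.exists_word h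
    refine ⟨c⁻¹, hc.1.inv_left, fun a ha => ?_⟩
    have hm := h.large.conj_mem hc.1.inv_left ha
    have e : app W (p (c⁻¹ * a * c⁻¹⁻¹)) = p a := by rw [← hc.2 _ hm]; congr 1; group
    exact ⟨fun hp => h.app_inj hc (h.lt _ hm) A.u_lt (by rw [e, hp, hu]),
      fun hp => h.app_inj hc (h.lt _ hm) A.v_lt (by rw [e, hp, hv])⟩
  choose r hrz hr using key
  obtain ⟨a0, ha0, pa0⟩ := h.surj 12 (by norm_num)
  obtain ⟨b0, hb0, pb0⟩ := h.surj 52 (by norm_num)
  let f : {t : Nat × Nat // t ∈ pairs.toFinset} × stabGroup S → Subgroup.centralizer ({z} : Set G) := fun w =>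
    ⟨r w.1 * w.2, mem_centralizer_singleton_iff'.2 ((hrz w.1).mul_left (show Stab z Q p w.2 from w.2.2).1)⟩
  have hpt : ∀ w, p ((f w : G) * a0 * (f w : G)⁻¹) = w.1.1.1 ∧ p ((f w : G) * b0 * (f w : G)⁻¹) = w.1.1.2 := by
    rintro ⟨t, s, hs⟩
    have hs' : Stab z Q p s := hs
    constructor
    · rw [show (f (t, ⟨s, hs⟩) : G) = r t * s from rfl,
        show r t * s * a0 * (r t * s)⁻¹ = r t * (s * a0 * s⁻¹) * (r t)⁻¹ by group]
      exact (hr t _ (h.large.conj_mem hs'.1 ha0)).1 ((hs'.2 a0 ha0 (Or.inl pa0)).trans pa0)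
    · rw [show (f (t, ⟨s, hs⟩) : G) = r t * s from rfl,
        show r t * s * b0 * (r t * s)⁻¹ = r t * (s * b0 * s⁻¹) * (r t)⁻¹ by group]
      exact (hr t _ (h.large.conj_mem hs'.1 hb0)).2 ((hs'.2 b0 hb0 (Or.inr pb0)).trans pb0)
  have hbij : Function.Bijective f := by
    constructor
    · rintro ⟨t, s⟩ ⟨t', s'⟩ e
      have e1 := hpt (t, s)
      rw [e] at e1
      obtain rfl : t = t' := Subtype.ext (Prod.ext (e1.1.symm.trans (hpt (t', s')).1) (e1.2.symm.trans (hpt (t', s')).2))
      exact Prod.ext rfl (Subtype.ext (mul_left_cancel (congrArg Subtype.val e)))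
    · rintro ⟨c, hc⟩
      obtain ⟨W, hW, hcW⟩ := h.exists_acts (mem_centralizer_singleton_iff'.1 hc)
      have A : Anis (app W 12) (app W 52) := by
        refine ⟨(hW.2 12 (by norm_num)).1, (hW.2 52 (by norm_num)).1, ?_, ?_, ?_⟩
        · rw [(hW.2 12 (by norm_num)).2]; decide +kernel
        · rw [(hW.2 52 (by norm_num)).2]; decide +kernel
        · rw [iso_bb h hW (by norm_num) (by norm_num)]; decide +kernel
      let t : {t : Nat × Nat // t ∈ pairs.toFinset} := ⟨_, List.mem_toFinset.2 (mem_pairs.2 A)⟩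
      have hs : Stab z Q p ((r t)⁻¹ * c) := by
        refine ⟨(hrz t).inv_left.mul_left hcW.1, fun a ha hpa => ?_⟩
        obtain ⟨R, -, hR⟩ := h.exists_acts (hrz t)
        have hm := h.large.conj_mem ((hrz t).inv_left.mul_left hcW.1) ha
        refine h.app_inj hR (h.lt _ hm) (h.lt _ ha) ?_
        rw [← hR.2 _ hm, ← hR.2 a ha,
          show r t * ((r t)⁻¹ * c * a * ((r t)⁻¹ * c)⁻¹) * (r t)⁻¹ = c * a * c⁻¹ by group, hcW.2 a ha]
        rcases hpa with e | e
        · rw [(hr t a ha).1 e, e]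
        · rw [(hr t a ha).2 e, e]
      exact ⟨(t, ⟨_, hs⟩), Subtype.ext (mul_inv_cancel_left _ _)⟩
  have := Nat.card_eq_of_bijective f hbij
  rw [Nat.card_prod, h.cardC] at this
  have hn : Nat.card {t : Nat × Nat // t ∈ pairs.toFinset} = 6720 := by
    rw [Nat.card_eq_fintype_card, Fintype.card_coe, List.toFinset_card_of_nodup
      nodup_pairs, length_pairs]
  rw [hn] at this
  linarith

/-- the part of the core centralised by the element -/
def coreQ (Q : Subgroup G) (x : G) : Subgroup G := Q ⊓ Subgroup.centralizer ({x} : Set G)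

theorem mem_core {a : G} : a ∈ coreQ Q x ↔ a ∈ Q ∧ p a ∈ fix0 := by
  have h := S.frame.sys
  rw [coreQ, Subgroup.mem_inf, mem_centralizer_singleton_iff', fix0, List.mem_filter, List.mem_range, beq_iff_eq]
  refine ⟨fun ⟨ha, hc⟩ => ⟨ha, h.lt a ha, ?_⟩, fun ⟨ha, _, hf⟩ => ⟨ha, ?_⟩⟩
  · rw [← S.act.2 a ha, ← (show Commute a x from hc).eq, mul_inv_cancel_right]
  · exact (commute_of_fix h S.cube S.act ha hf).symm.eq

theorem card_core : Nat.card (coreQ Q x) = 128 := by
  have hfix : fix0.Nodup := List.Nodup.filter _ List.nodup_range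
  rw [Nat.card_congr (Equiv.subtypeEquivRight fun a => mem_core S (a := a)),
    CfsgLib.Recog.CoOneFive.card_fibre S.frame.sys hfix (fun n hn => List.mem_range.1 (List.mem_filter.1 hn).1),
    rot0_facts.2.2.2.2.2.2.1]

/-- every element of the stabiliser differs by a core element from one centralising the element -/
theorem exists_core_mul {c : G} (hc : Stab z Q p c) : ∃ q ∈ Q, q * c ∈ compl S := by
  have h := S.frame.sys
  obtain ⟨W, hW, hcW⟩ := h.exists_acts hc.1
  obtain ⟨e1, e2⟩ := (stab_iff S hcW).1 hc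
  have hx' : Acts z Q p (c * x * c⁻¹) rot0 := conj_rot h anis0 hW hcW S.act e1 e2
  obtain ⟨q, hq, he, -⟩ := coset_conj h rot0_facts.1 rot0_facts.2.1
    (show c * x * c⁻¹ * (c * x * c⁻¹) * (c * x * c⁻¹) = 1 by
      calc c * x * c⁻¹ * (c * x * c⁻¹) * (c * x * c⁻¹) = c * (x * x * x) * c⁻¹ := by group
        _ = 1 := by rw [S.cube]; group) S.cube hx' S.act
  refine ⟨q, hq, (mem_compl S).2 ⟨⟨(h.large.commute_z hq).mul_left hc.1, fun a ha hpa => ?_⟩, ?_⟩⟩
  · rw [show q * c * a * (q * c)⁻¹ = q * (c * a * c⁻¹) * q⁻¹ by group, h.p_conj_q (h.large.conj_mem hc.1 ha) hq,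
      hc.2 a ha hpa]
  · refine mul_inv_eq_iff_eq_mul.1 ?_
    rw [show q * c * x * (q * c)⁻¹ = q * (c * x * c⁻¹) * q⁻¹ by group, he]

theorem card_compl : Nat.card (compl S) = 128 * 25920 := by
  classical
  have h := S.frame.sys
  have hQle : Q ≤ stabGroup S := fun a ha => ⟨h.large.commute_z ha, fun b hb _ => h.p_conj_q hb ha⟩
  let Qs : Subgroup (stabGroup S) := Q.subgroupOf (stabGroup S)
  haveI : Qs.Normal := ⟨fun a ha g => by
    rw [Subgroup.mem_subgroupOf] at ha ⊢
    rw [Subgroup.coe_mul, Subgroup.coe_mul, Subgroup.coe_inv]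
    exact h.large.conj_mem (show Stab z Q p (g : G) from g.2).1 ha⟩
  let φ : compl S →* stabGroup S ⧸ Qs :=
    (QuotientGroup.mk' Qs).comp (Subgroup.inclusion (inf_le_left : compl S ≤ stabGroup S))
  have hsurj : Function.Surjective φ := by
    intro t
    induction t using QuotientGroup.induction_on with
    | _ c =>
      obtain ⟨q, hq, hqc⟩ := exists_core_mul S (show Stab z Q p (c : G) from c.2)
      refine ⟨⟨_, hqc⟩, QuotientGroup.eq.2 ?_⟩
      rw [Subgroup.mem_subgroupOf, Subgroup.coe_mul, Subgroup.coe_inv]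
      show (q * (c : G))⁻¹ * c ∈ Q
      rw [show (q * (c : G))⁻¹ * c = (c : G)⁻¹ * q⁻¹ * c⁻¹⁻¹ by group]
      exact h.large.conj_mem (show Stab z Q p (c : G) from c.2).1.inv_left (Q.inv_mem hq)
  have hker : φ.ker = (coreQ Q x).subgroupOf (compl S) := by
    ext a
    rw [MonoidHom.mem_ker, MonoidHom.comp_apply, QuotientGroup.mk'_apply, QuotientGroup.eq_one_iff,
      Subgroup.mem_subgroupOf, Subgroup.mem_subgroupOf, coreQ, Subgroup.mem_inf]
    exact ⟨fun ha => ⟨ha, a.2.2⟩, fun ha => ha.1⟩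
  have hle : coreQ Q x ≤ compl S := fun a ha => ⟨hQle ha.1, ha.2⟩
  have h1 := Subgroup.card_mul_index φ.ker
  rw [Subgroup.index_ker, MonoidHom.range_eq_top.2 hsurj, Subgroup.card_top, hker,
    Nat.card_congr (Subgroup.subgroupOfEquivOfLe hle).toEquiv, card_core S] at h1
  have h2 := Qs.card_eq_card_quotient_mul_card_subgroup
  rw [Nat.card_congr (Subgroup.subgroupOfEquivOfLe hQle).toEquiv, h.card] at h2
  have h3 := card_stab S
  rw [h2] at h3
  omega

/-- splitting off the group of order three -/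
theorem exists_pow_mul {c : G} (hcz : Commute c z) (hcx : Commute c x) : ∃ i < 3, ∃ s ∈ compl S, c = x ^ i * s := by
  have h := S.frame.sys
  obtain ⟨A, hA, hcA⟩ := h.exists_acts hcz
  obtain ⟨r1, r3, r01, r12, r52, r56, -, -⟩ := rot0_facts
  have hcomm : ∀ n < 256, app A (app rot0 n) = app rot0 (app A n) := by
    have e : comp A rot0 = comp rot0 A := by
      refine h.acts_unique (by rw [length_comp, r1]) (by rw [length_comp, hA.1]) (h.acts_mul r1 hcA S.act) ?_
      rw [hcx.eq]
      exact h.acts_mul hA.1 S.act hcA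
    intro n _
    rw [← app_comp r1, e, app_comp hA.1]
  have hA0 : app A 12 ≠ 0 := fun e => by
    have := (hA.2 12 (by norm_num)).2
    rw [e] at this
    exact absurd this (by decide +kernel)
  have hmem : app A 12 = 12 ∨ app A 12 = 52 ∨ app A 12 = 56 := by
    -- the vector is a displacement
    have e : app rot0 (app A 56) ^^^ app A 56 = app A (12 ^^^ 56) := by
      rw [← hcomm 56 (by norm_num), r56, app_xor, Nat.xor_comm]
    have e' : app A 56 ^^^ app rot0 (app A 56) = app A 52 := by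
      rw [Nat.xor_comm, e]; rfl
    have := rot0_moved _ (hA.2 56 (by norm_num)).1
    rw [e'] at this
    have e52 : app A 52 = app rot0 (app A 12) := by rw [← hcomm 12 (by norm_num), r12]
    have hback : app A 12 = app rot0 (app rot0 (app A 52)) := by
      rw [← hcomm 52 (by norm_num), r52, ← hcomm 56 (by norm_num), r56]
    rcases this with e1 | e1 | e1 | e1 <;> rw [e1] at hback
    · exact absurd (hback.trans (by decide +kernel : app rot0 (app rot0 0) = 0)) hA0
    all_goals revert hback; generalize app A 12 = m; rintro rfl; decide +kernel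
  obtain ⟨i, hi, hit⟩ : ∃ i < 3, app ([one, rot0, comp rot0 rot0].getD i one) 12 = app A 12 := by
    rcases hmem with e | e | e <;> rw [e]
    exacts [⟨0, by norm_num, by decide +kernel⟩, ⟨1, by norm_num, by decide +kernel⟩, ⟨2, by norm_num, by decide +kernel⟩]
  have hxi := S.pow_acts i
  rw [Nat.mod_eq_of_lt hi] at hxi
  have hsx : Commute ((x ^ i)⁻¹ * c) x := ((Commute.pow_self x i).inv_left.mul_left hcx)
  obtain ⟨W, hW, hsW⟩ := h.exists_acts (hxi.1.inv_left.mul_left hcA.1)
  have w12 : app W 12 = 12 := by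
    obtain ⟨a, ha, pa⟩ := h.surj 12 (by norm_num)
    have hm := h.large.conj_mem hsW.1 ha
    rw [← pa, ← hsW.2 a ha]
    refine h.app_inj hxi (h.lt _ hm) (h.lt _ ha) ?_
    rw [← hxi.2 _ hm, show x ^ i * ((x ^ i)⁻¹ * c * a * ((x ^ i)⁻¹ * c)⁻¹) * (x ^ i)⁻¹ = c * a * c⁻¹ by group,
      hcA.2 a ha, pa, hit]
  have w52 : app W 52 = 52 := by
    have e : comp W rot0 = comp rot0 W := by
      refine h.acts_unique (by rw [length_comp, r1]) (by rw [length_comp, hW.1]) (h.acts_mul r1 hsW S.act) ?_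
      rw [hsx.eq]
      exact h.acts_mul hW.1 S.act hsW
    rw [← r12, ← app_comp r1, e, app_comp hW.1, w12]
  exact ⟨i, hi, _, (mem_compl S).2 ⟨(stab_iff S hsW).2 ⟨w12, w52⟩, hsx⟩, (mul_inv_cancel_left _ _).symm⟩

/-- the complement meets the group of order three trivially -/
theorem compl_inter {i : ℕ} (hi : x ^ i ∈ compl S) : x ^ i = 1 := by
  have h := (mem_compl S).1 hi
  have hacts := S.pow_acts i
  have hfix := ((stab_iff S hacts).1 h.1).1
  have hx3 : x ^ 3 = 1 := by rw [pow_succ, pow_two, S.cube]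
  have : x ^ i = x ^ (i % 3) := by
    conv_lhs => rw [← Nat.div_add_mod i 3, pow_add, pow_mul, hx3, one_pow, one_mul]
  rw [this]
  have := Nat.mod_lt i (show 3 > 0 by norm_num)
  interval_cases hm : i % 3
  · exact pow_zero x
  all_goals exact absurd hfix (by decide +kernel)

end CfsgLib.Recog.CoOneThree
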