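import Mathlib.Init

set_option autoImplicit false

/-! Generated data: words moving an ordered pair spanning an anisotropic plane to the standard one
(owner: helper22). -/

namespace CfsgLib.Recog.CoOneThree

/-- words moving a vector to the first standard one -/
def toFirst : List (Nat × List Nat) := [
  (3, [2, 0, 4, 2, 4]),
  (7, [4, 7, 3]),
  (11, [2, 0, 6]),
  (12, []),
  (13, [1, 1, 7, 5, 1]),
  (14, [1, 2, 4, 4]),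
  (19, [1, 6, 1]),
  (23, [1, 1, 2, 4]),
  (27, [4, 7, 0]),
  (28, [1, 6, 3, 4]),
  (29, [1, 4, 2, 3]),
  (30, [2, 0, 4, 3]),
  (35, [2, 3, 4, 5]),
  (39, [2, 7, 6]),
  (43, [4, 3]),
  (44, [1, 1, 2, 0]),
  (45, [1, 6, 4, 5]),
  (46, [1, 6, 4, 4, 6]),
  (48, [1, 1, 2, 3]),
  (49, [4, 0, 4]),
  (50, [1, 1, 5, 4]),
  (52, [1]),
  (53, [1, 1, 7, 4]),
  (54, [2, 2, 4, 2]),
  (56, [2, 2]),
  (57, [2, 0, 4, 4]),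
  (58, [2, 1, 4]),
  (63, [2, 0, 0, 4]),
  (67, [1, 2, 4, 7]),
  (71, [4, 0]),
  (75, [1, 6, 0, 0]),
  (76, [2, 1]),
  (77, [1, 4, 7, 2]),
  (78, [2, 2, 4]),
  (83, [2, 3, 4]),
  (87, [4, 1]),
  (91, [4, 3, 0]),
  (92, [4, 7, 1, 6]),
  (93, [4, 3, 4]),
  (94, [1, 1, 5, 4, 3]),
  (99, [2, 7, 4]),
  (103, [1, 6, 7]),
  (107, [4, 5, 7]),
  (108, [4, 0, 4, 5]),
  (109, [4, 7, 0, 4]),
  (110, [1, 1, 7, 5, 4]),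
  (112, [1, 6, 4]),
  (113, [1, 4, 2, 0]),
  (114, [2, 0, 4, 0]),
  (116, [2]),
  (117, [1, 6, 5, 6]),
  (118, [4, 3, 0, 5]),
  (120, [1, 2]),
  (121, [1, 4, 7]),
  (122, [4, 4]),
  (127, [1, 4, 4, 0]),
  (131, [1, 6, 2]),
  (135, [4]),
  (139, [1, 6, 0]),
  (140, [2, 0, 0, 1]),
  (141, [1, 6, 4, 4]),
  (142, [1, 4, 7, 6, 1]),
  (147, [4, 7, 1]),
  (151, [1, 6, 3]),
  (155, [4, 3, 7]),
  (156, [1, 1, 2]),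
  (157, [1, 4, 2, 7]),
  (158, [2, 0, 4, 7]),
  (163, [1, 6, 1, 7]),
  (167, [1, 6, 0, 7]),
  (171, [4, 7]),
  (172, [1, 2, 3, 2]),
  (173, [1, 1, 2, 5, 3]),
  (174, [1, 6, 2, 5]),
  (176, [1, 1, 7, 2]),
  (177, [1, 4, 2]),
  (178, [2, 0, 4]),
  (180, [2, 0, 0]),
  (181, [2, 7, 5]),
  (182, [1, 4, 7, 6]),
  (184, [1, 1, 7, 0]),
  (185, [1, 1, 5]),
  (186, [1, 6, 5, 3]),
  (191, [1, 4, 4]),
  (192, [1, 6, 4, 0]),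
  (193, [1, 1, 2, 5]),
  (194, [2, 0, 4, 5]),
  (196, [2, 0]),
  (197, [2, 0, 5, 7]),
  (198, [4, 3, 7, 5]),
  (200, [1, 1, 7]),
  (201, [1, 4]),
  (202, [4, 4, 0]),
  (207, [1, 4, 4, 5]),
  (208, [2, 1, 7]),
  (209, [2, 0, 1, 5]),
  (210, [2, 1, 4, 1]),
  (212, [1, 2, 3]),
  (213, [1, 1, 5, 6]),
  (214, [1, 6, 5]),
  (216, [2, 3]),
  (217, [2, 7, 5, 6]),
  (218, [4, 5, 5]),
  (223, [1, 2, 4, 7, 7]),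
  (224, [2, 1, 3]),
  (225, [1, 4, 7, 2, 3]),
  (226, [2, 2, 4, 3]),
  (228, [1, 1]),
  (229, [1, 1, 7, 5]),
  (230, [4, 4, 7]),
  (232, [2, 7]),
  (233, [2, 0, 5]),
  (234, [1, 1, 2, 4, 4]),
  (239, [1, 6, 2, 6]),
  (243, [1, 2, 4]),
  (247, [4, 5]),
  (251, [1, 6]),
  (252, [2, 0, 1]),
  (253, [1, 4, 2, 2]),
  (254, [2, 0, 4, 2])]

/-- words fixing the first standard vector and moving a vector to the second -/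
def toSecond : List (Nat × List Nat) := [
  (7, [1, 7, 1, 1, 6]),
  (11, [6, 3, 7]),
  (23, [6, 7, 5]),
  (27, [1, 7, 0, 1, 1, 6]),
  (39, [6, 0, 3]),
  (43, [2, 2, 7, 2, 6]),
  (52, []),
  (53, [1, 7, 5, 1, 1]),
  (54, [1, 2, 5, 6, 6, 7, 1]),
  (56, [1, 2, 1, 7, 1]),
  (57, [6, 2, 5, 6, 2, 2]),
  (58, [4, 2, 4, 4]),
  (71, [1, 2, 6, 7, 1]),
  (75, [6, 0, 0]),
  (87, [6, 3, 3]),
  (91, [6, 1, 4, 5, 1]),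
  (103, [6, 7]),
  (107, [2, 4, 2, 3, 2]),
  (116, [2, 7, 1, 2]),
  (117, [6, 5, 6]),
  (118, [4, 0, 6, 1, 6]),
  (120, [1, 7, 1, 1, 7]),
  (121, [1, 4, 5, 0, 1]),
  (122, [4, 4, 1, 4]),
  (135, [4, 1, 5, 1, 4]),
  (139, [6, 0]),
  (151, [6, 3]),
  (155, [1, 6, 5, 3, 3, 4]),
  (167, [6, 0, 7]),
  (171, [2, 4, 7, 1, 2]),
  (180, [6, 7, 6, 0]),
  (181, [1, 2, 5, 7, 1]),
  (182, [4, 0, 6, 4, 1]),
  (184, [1, 7, 0, 1, 1]),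
  (185, [1, 4, 5, 1]),
  (186, [6, 5, 3]),
  (196, [6, 7, 6]),
  (197, [6, 5, 6, 0]),
  (198, [1, 5, 4, 3, 5, 1]),
  (200, [1, 7, 1, 1]),
  (201, [1, 4, 5, 1, 5]),
  (202, [6, 3, 5]),
  (212, [2, 2, 3, 2]),
  (213, [4, 0, 6, 1]),
  (214, [6, 5]),
  (216, [6, 7, 5, 6]),
  (217, [6, 5, 6, 3]),
  (218, [1, 4, 5, 4, 1]),
  (228, [2, 2, 7, 2]),
  (229, [1, 7, 1, 1, 5]),
  (230, [4, 4, 1, 4, 7]),
  (232, [6, 0, 0, 6]),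
  (233, [6, 5, 6, 7]),
  (234, [4, 2, 0, 6, 1]),
  (247, [1, 2, 1, 7, 1, 6]),
  (251, [6])]

end CfsgLib.Recog.CoOneThree
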