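import Cfsg.Agent.Lib.Recog.CoOneType.System
import Cfsg.Agent.Lib.Recog.CoOneThree.RotData

set_option autoImplicit false
set_option linter.unusedSectionVars false
set_option maxRecDepth 100000
set_option Elab.async false

/-!
Rotations of anisotropic planes in the eight-dimensional model (owner: helper22).
-/

namespace CfsgLib.Recog.CoOneThree

open CfsgLib.Recog.CoOneType

/-- the displacement of the rotation of a plane -/
def rotD (u v n : Nat) : Nat := (bif bb n v then u ^^^ v else 0) ^^^ (bif bb n u then u else 0)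

/-- the rotation of the plane of two vectors -/
def rotP (u v : Nat) : List Nat := one.map fun y => y ^^^ rotD u v y

/-- the standard rotation -/
def rot0 : List Nat := rotP 12 52

/-- the vectors fixed by it -/
def fix0 : List Nat := (List.range 256).filter fun n => app rot0 n == n

/-- Two vectors spanning an anisotropic plane. -/
structure Anis (u v : Nat) : Prop where
  u_lt : u < 256
  v_lt : v < 256
  qu : qb u = true
  qv : qb v = true
  buv : bb u v = true

theorem anis0 : Anis 12 52 := ⟨by norm_num, by norm_num, by decide +kernel, by decide +kernel, by decide +kernel⟩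

theorem rot0_facts : rot0.length = 8 ∧ comp rot0 (comp rot0 rot0) = one ∧ app rot0 1 = 1 ∧ app rot0 12 = 52 ∧
    app rot0 52 = 56 ∧ app rot0 56 = 12 ∧ fix0.length = 64 ∧
    (fix0.all fun n => n == 0 || fix0.any fun m => bb n m) = true := by
  refine ⟨?_, ?_, ?_, ?_, ?_, ?_, ?_, ?_⟩ <;> decide +kernel

theorem nondeg_full : ((List.range 256).all fun u => u == 0 || (List.range 256).any fun n => bb n u) = true := by
  decide +kernel

theorem rot0_moved : ∀ n < 256, n ^^^ app rot0 n = 0 ∨ n ^^^ app rot0 n = 12 ∨ n ^^^ app rot0 n = 52 ∨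
    n ^^^ app rot0 n = 56 := by decide +kernel

theorem first_ok : ((List.range 256).all fun u => !qb u ||
    toFirst.any fun e => e.1 == u && app (wmap e.2) u == 12) = true := by decide +kernel

theorem second_ok : ((List.range 256).all fun v => !(qb v && bb 12 v) ||
    toSecond.any fun e => e.1 == v && app (wmap e.2) 12 == 12 && app (wmap e.2) v == 52) = true := by decide +kernel

theorem rotD_xor (u v a b : Nat) : rotD u v (a ^^^ b) = rotD u v a ^^^ rotD u v b := by
  unfold rotD
  rw [bb_xor_left, bb_xor_left]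
  cases bb a v <;> cases bb b v <;> cases bb a u <;> cases bb b u <;>
    simp [Nat.xor_assoc, Nat.xor_comm, Nat.xor_left_comm, Nat.xor_self]

theorem app_rotP (u v : Nat) {n : Nat} (hn : n < 256) : app (rotP u v) n = n ^^^ rotD u v n :=
  (additive_eq (fun m => m ^^^ rotD u v m) (fun a _ b _ => by
    simp only [rotD_xor]
    ac_rfl) n hn).symm

theorem length_rotP (u v : Nat) : (rotP u v).length = 8 := List.length_map _

theorem bb_self (a : Nat) : bb a a = false := by simp [bb, qb]

namespace Anis

variable {u v : Nat} (A : Anis u v)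
include A

theorem sum_lt : u ^^^ v < 256 := lt_xor A.u_lt A.v_lt

theorem rotD_lt (n : Nat) : rotD u v n < 256 := by
  unfold rotD
  refine lt_xor ?_ ?_
  · cases bb n v
    · simp
    · exact A.sum_lt
  · cases bb n u
    · simp
    · exact A.u_lt

theorem app_u : app (rotP u v) u = v := by
  rw [app_rotP u v A.u_lt, rotD, A.buv, bb_self]
  simp

theorem app_v : app (rotP u v) v = u ^^^ v := by
  rw [app_rotP u v A.v_lt, rotD, bb_self, bb_comm v u, A.buv]
  simp [Nat.xor_comm]

theorem ne : u ≠ 0 ∧ v ≠ 0 ∧ u ≠ v := by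
  have h := A.buv
  refine ⟨?_, ?_, ?_⟩ <;> intro e <;> subst e
  · rw [bb_comm, bb_zero] at h; exact Bool.false_ne_true h
  · rw [bb_zero] at h; exact Bool.false_ne_true h
  · rw [bb_self] at h; exact Bool.false_ne_true h

end Anis

theorem Anis.exists_word {u v : Nat} (A : Anis u v) {G : Type*} [Group G] [Finite G] {z : G} {Q : Subgroup G}
    {p : G → Nat} (h : Sys z Q p) :
    ∃ W c, Iso W ∧ Acts z Q p c W ∧ app W u = 12 ∧ app W v = 52 := by
  have h1 := List.all_eq_true.1 first_ok u (List.mem_range.2 A.u_lt)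
  simp only [A.qu, Bool.not_true, Bool.false_or, List.any_eq_true, Bool.and_eq_true, beq_iff_eq] at h1
  obtain ⟨⟨u', w1⟩, -, hu, e1⟩ := h1
  obtain rfl : u' = u := hu
  obtain ⟨hl1, c1, hc1⟩ := h.acts_word w1
  obtain ⟨W1, hW1, hW1c⟩ := h.exists_acts hc1.1
  obtain rfl := h.acts_unique hW1.1 hl1 hW1c hc1
  have hv := (hW1.2 v A.v_lt).1
  have hb : bb 12 (app (wmap w1) v) = true := by
    have hbb : bb (app (wmap w1) u') (app (wmap w1) v) = bb u' v := by
      unfold bb
      rw [← app_xor, (hW1.2 _ A.u_lt).2, (hW1.2 v A.v_lt).2, (hW1.2 _ (lt_xor A.u_lt A.v_lt)).2]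
    rw [← e1, hbb, A.buv]
  have h2 := List.all_eq_true.1 second_ok _ (List.mem_range.2 hv)
  simp only [(hW1.2 v A.v_lt).2.trans A.qv, hb, Bool.and_self, Bool.not_true, Bool.false_or, List.any_eq_true,
    Bool.and_eq_true, beq_iff_eq] at h2
  obtain ⟨⟨v', w2⟩, -, ⟨hv', e2⟩, e3⟩ := h2
  obtain rfl : v' = app (wmap w1) v := hv'
  obtain ⟨hl2, c2, hc2⟩ := h.acts_word w2
  obtain ⟨W, hW, hWc⟩ := h.exists_acts (hc2.1.mul_left hc1.1)
  obtain rfl := h.acts_unique hW.1 (by rw [length_comp, hl1]) hWc (h.acts_mul hl1 hc2 hc1)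
  refine ⟨_, _, hW, hWc, ?_, ?_⟩
  · rw [app_comp hl1, e1, e2]
  · rw [app_comp hl1, e3]

/-- an isometry of order three moving inside a small group is a rotation -/
theorem exists_rot {R : List Nat} (hR : Iso R) (hR3 : comp R (comp R R) = one) (hne : R ≠ one)
    (hI : ((Finset.range 256).image fun n => n ^^^ app R n).card ≤ 8) : ∃ u v, Anis u v ∧ R = rotP u v := by
  classical
  set I : Finset Nat := (Finset.range 256).image fun n => n ^^^ app R n with hIdef
  have hcube : ∀ n < 256, app R (app R (app R n)) = n := fun n hn => by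
    have := app_comp (A := R) (B := comp R R) (by rw [length_comp, hR.1]) n
    rw [hR3, app_one n hn, app_comp hR.1] at this
    exact this.symm
  have hx : ∀ a ∈ I, ∀ b ∈ I, a ^^^ b ∈ I := by
    intro a ha b hb
    obtain ⟨n, hn, rfl⟩ := Finset.mem_image.1 ha
    obtain ⟨m, hm, rfl⟩ := Finset.mem_image.1 hb
    rw [Finset.mem_range] at hn hm
    exact Finset.mem_image.2 ⟨n ^^^ m, Finset.mem_range.2 (lt_xor hn hm), by rw [app_xor]; ac_rfl⟩
  have hI' : ∀ a ∈ I, a < 256 ∧ app R a ∈ I ∧ a ^^^ app R a ^^^ app R (app R a) = 0 ∧ (app R a = a → a = 0) := by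
    intro a ha
    obtain ⟨n, hn, rfl⟩ := Finset.mem_image.1 ha
    rw [Finset.mem_range] at hn
    have hs : (n ^^^ app R n) ^^^ app R (n ^^^ app R n) ^^^ app R (app R (n ^^^ app R n)) = 0 := by
      rw [app_xor, app_xor, hcube n hn]
      generalize app R n = b
      generalize app R b = c
      rw [show (n ^^^ b) ^^^ (b ^^^ c) = n ^^^ c by
        rw [Nat.xor_assoc, ← Nat.xor_assoc b b c, Nat.xor_self, Nat.zero_xor],
        Nat.xor_assoc, ← Nat.xor_assoc c c n, Nat.xor_self, Nat.zero_xor, Nat.xor_self]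
    refine ⟨lt_xor hn (hR.2 n hn).1, Finset.mem_image.2 ⟨_, Finset.mem_range.2 (hR.2 n hn).1, (app_xor _ _ _).symm⟩,
      hs, fun e => ?_⟩
    rw [e, e, Nat.xor_self, Nat.zero_xor] at hs
    exact hs
  obtain ⟨u, hu, hu0⟩ : ∃ u ∈ I, u ≠ 0 := by
    by_contra hno
    push Not at hno
    refine hne (eq_of_app hR.1 rfl fun n hn => ?_)
    have hn' : n < 256 := by revert n; decide
    rw [app_one n hn']
    exact (Nat.xor_eq_zero_iff.1 (hno _ (Finset.mem_image.2 ⟨n, Finset.mem_range.2 hn', rfl⟩))).symm
  obtain ⟨hult, hv, hsum, hufix⟩ := hI' u hu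
  set v := app R u with hvdef
  obtain ⟨hvlt, -, -, -⟩ := hI' v hv
  have hRv : app R v = u ^^^ v := by
    have := congrArg (fun t => (u ^^^ v) ^^^ t) hsum
    simpa [← Nat.xor_assoc] using this
  have huv : u ≠ v := fun e => hu0 (hufix e.symm)
  have h0 : 0 ∈ I := by simpa using hx u hu u hu
  have hv0 : v ≠ 0 := fun e => huv (by
    have := hRv
    rw [e, app_zero, Nat.xor_zero] at this
    rw [e]; exact this.symm)
  have hclosed : ∀ w ∈ I, w = 0 ∨ w = u ∨ w = v ∨ w = u ^^^ v := by
    intro w hw
    by_contra hout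
    push Not at hout
    obtain ⟨w0, wu, wv, wuv⟩ := hout
    obtain ⟨-, hRw, -, -⟩ := hI' w hw
    let S : Finset Nat := {0, u, v, u ^^^ v}
    have hSI : S ⊆ I := by
      intro t ht
      simp only [S, Finset.mem_insert, Finset.mem_singleton] at ht
      rcases ht with rfl | rfl | rfl | rfl
      exacts [h0, hu, hv, hx u hu v hv]
    have hSmem : ∀ a b : Bool, (bif a then u else 0) ^^^ (bif b then v else 0) ∈ S := by
      intro a b
      cases a <;> cases b <;> simp [S]
    obtain ⟨f, hf⟩ : ∃ f : Bool × Bool × Bool → Nat, ∀ t, f t =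
        ((bif t.1 then u else 0) ^^^ (bif t.2.1 then v else 0)) ^^^ (bif t.2.2 then w else 0) := ⟨_, fun _ => rfl⟩
    have hker : ∀ a b c : Bool, f (a, b, c) = 0 → a = false ∧ b = false ∧ c = false := by
      intro a b c e
      rw [hf] at e
      cases a <;> cases b <;> cases c <;> simp only [cond_true, cond_false, Nat.zero_xor, Nat.xor_zero] at e
      all_goals first
        | exact ⟨rfl, rfl, rfl⟩
        | exact absurd e w0
        | exact absurd e hu0
        | exact absurd e hv0
        | exact absurd (Nat.xor_eq_zero_iff.1 e).symm wu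
        | exact absurd (Nat.xor_eq_zero_iff.1 e).symm wv
        | exact absurd (Nat.xor_eq_zero_iff.1 e).symm wuv
        | exact absurd (Nat.xor_eq_zero_iff.1 e) huv
    have hinj : Function.Injective f := by
      rintro ⟨a, b, c⟩ ⟨a', b', c'⟩ e
      have e0 : f (Bool.xor a a', Bool.xor b b', Bool.xor c c') = 0 := by
        have e2 : f (Bool.xor a a', Bool.xor b b', Bool.xor c c') = f (a, b, c) ^^^ f (a', b', c') := by
          rw [hf, hf, hf]
          cases a <;> cases a' <;> cases b <;> cases b' <;> cases c <;> cases c' <;>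
            simp [Nat.xor_assoc, Nat.xor_comm, Nat.xor_left_comm, Nat.xor_self]
        rw [e2, e, Nat.xor_self]
      obtain ⟨h1, h2, h3⟩ := hker _ _ _ e0
      cases a <;> cases a' <;> cases b <;> cases b' <;> cases c <;> cases c' <;>
        first | rfl | exact Bool.noConfusion h1 | exact Bool.noConfusion h2 | exact Bool.noConfusion h3
    have hfull : Finset.univ.image f = I := by
      refine Finset.eq_of_subset_of_card_le ?_ ?_
      · intro t ht
        obtain ⟨⟨a, b, c⟩, -, rfl⟩ := Finset.mem_image.1 ht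
        rw [hf]
        refine hx _ (hSI (hSmem a b)) _ ?_
        cases c
        · exact h0
        · exact hw
      · rw [Finset.card_image_of_injective _ hinj]
        exact hI
    -- the image of `w` differs from it by a member of the line
    obtain ⟨⟨a1, a2, c⟩, -, hRw'⟩ := Finset.mem_image.1 (hfull.symm ▸ hRw : app R w ∈ Finset.univ.image f)
    rw [hf] at hRw'
    have ha : ∃ a ∈ S, app R w = w ^^^ a := by
      refine ⟨_, hSmem a1 a2, ?_⟩
      cases c
      · exfalso
        have hin : w ∈ S := by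
          have hRS : ∀ t ∈ S, app R t ∈ S := by
            intro t ht
            simp only [S, Finset.mem_insert, Finset.mem_singleton] at ht ⊢
            rcases ht with rfl | rfl | rfl | rfl
            · exact Or.inl (app_zero R)
            · exact Or.inr (Or.inr (Or.inl rfl))
            · exact Or.inr (Or.inr (Or.inr hRv))
            · rw [app_xor, hRv, Nat.xor_comm u v, ← Nat.xor_assoc, ← hvdef, Nat.xor_self, Nat.zero_xor]
              exact Or.inr (Or.inl rfl)
          have hmem : app R w ∈ S := by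
            rw [← hRw']
            simp only [cond_false, Nat.xor_zero]
            exact hSmem a1 a2
          have := hRS _ (hRS _ hmem)
          rwa [hcube w (hI' w hw).1] at this
        simp only [S, Finset.mem_insert, Finset.mem_singleton] at hin
        rcases hin with e | e | e | e
        exacts [w0 e, wu e, wv e, wuv e]
      · rw [← hRw']
        simp only [cond_true]
        rw [Nat.xor_comm]
    obtain ⟨a, ha, he⟩ := ha
    -- shift it to a fixed vector
    have hb : ∃ b ∈ S, b ^^^ app R b = a := by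
      simp only [S, Finset.mem_insert, Finset.mem_singleton] at ha ⊢
      rcases ha with e | e | e | e <;> subst a
      · exact ⟨0, Or.inl rfl, by rw [app_zero, Nat.xor_self]⟩
      · exact ⟨v, Or.inr (Or.inr (Or.inl rfl)), by
          rw [hRv, Nat.xor_comm u v, ← Nat.xor_assoc, Nat.xor_self, Nat.zero_xor]⟩
      · exact ⟨u ^^^ v, Or.inr (Or.inr (Or.inr rfl)), by
          rw [app_xor, hRv, Nat.xor_comm u v, ← Nat.xor_assoc v v u, Nat.xor_self, Nat.zero_xor, Nat.xor_assoc,
            Nat.xor_self, Nat.xor_zero]⟩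
      · exact ⟨u, Or.inr (Or.inl rfl), rfl⟩
    obtain ⟨b, hbS, hba⟩ := hb
    have hfix : app R (w ^^^ b) = w ^^^ b := by
      rw [app_xor, he, ← hba]
      rw [Nat.xor_assoc w, Nat.xor_assoc b, Nat.xor_self, Nat.xor_zero]
    have := (hI' _ (hx w hw b (hSI hbS))).2.2.2 hfix
    rw [Nat.xor_eq_zero_iff] at this
    subst this
    simp only [S, Finset.mem_insert, Finset.mem_singleton] at hbS
    rcases hbS with e | e | e | e
    exacts [w0 e, wu e, wv e, wuv e]
  -- the form on the plane
  have hq : ∀ n < 256, bb n (n ^^^ app R n) = qb (n ^^^ app R n) := by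
    intro n hn
    have h2 := (hR.2 n hn).2
    unfold bb
    rw [← Nat.xor_assoc, Nat.xor_self, Nat.zero_xor, h2]
    cases qb n <;> cases qb (n ^^^ app R n) <;> rfl
  have hqu : qb u = true ∧ qb v = true ∧ bb u v = true := by
    have e1 : qb v = qb u := (hR.2 u hult).2
    have e2 : qb (u ^^^ v) = qb v := hRv ▸ (hR.2 v hvlt).2
    have hbuv : bb u v = qb u := by unfold bb; rw [e2, e1]; cases qb u <;> rfl
    rcases Bool.eq_false_or_eq_true (qb u) with hqu | hqu
    · exact ⟨hqu, e1.trans hqu, hbuv.trans hqu⟩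
    exfalso
    have hz : ∀ w ∈ I, qb w = false := by
      intro w hw
      rcases hclosed w hw with rfl | rfl | rfl | rfl
      exacts [by decide, hqu, e1.trans hqu, (e2.trans e1).trans hqu]
    have hperp : ∀ a < 256, ∀ b < 256, bb a (b ^^^ app R b) = bb b (a ^^^ app R a) := by
      intro a ha b hb
      have h1 := hq _ (lt_xor ha hb)
      rw [app_xor, show (a ^^^ b) ^^^ (app R a ^^^ app R b) = (a ^^^ app R a) ^^^ (b ^^^ app R b) by ac_rfl,
        bb_xor_left a b, bb_xor_right a (a ^^^ app R a) (b ^^^ app R b), bb_xor_right b (a ^^^ app R a) (b ^^^ app R b),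
        hq a ha, hq b hb,
        hz _ (Finset.mem_image.2 ⟨a, Finset.mem_range.2 ha, rfl⟩),
        hz _ (Finset.mem_image.2 ⟨b, Finset.mem_range.2 hb, rfl⟩),
        hz _ (hx _ (Finset.mem_image.2 ⟨a, Finset.mem_range.2 ha, rfl⟩) _
          (Finset.mem_image.2 ⟨b, Finset.mem_range.2 hb, rfl⟩))] at h1
      simpa using h1
    obtain ⟨m, hm, hmu⟩ := Finset.mem_image.1 hu
    rw [Finset.mem_range] at hm
    have m1 : bb m u = false := by
      have := hq m hm
      rwa [hmu, hqu] at this
    have m2 : bb m (u ^^^ v) = false := by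
      rw [hperp m hm u hult, hmu, bb_self]
    have m3 : bb m v = false := by rw [bb_xor_right, m1] at m2; simpa using m2
    have hall : ∀ n < 256, bb n u = false := by
      intro n hn
      rw [← hmu, hperp n hn m hm]
      rcases hclosed _ (Finset.mem_image.2 ⟨n, Finset.mem_range.2 hn, rfl⟩) with e | e | e | e <;> rw [e]
      exacts [bb_zero m, m1, m3, m2]
    have := List.all_eq_true.1 nondeg_full u (List.mem_range.2 hult)
    simp only [Bool.or_eq_true, beq_iff_eq, hu0, false_or, List.any_eq_true, List.mem_range] at this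
    obtain ⟨n, hn, hb⟩ := this
    rw [hall n hn] at hb
    exact Bool.false_ne_true hb
  obtain ⟨hqu, hqv, hbuv⟩ := hqu
  refine ⟨u, v, ⟨hult, hvlt, hqu, hqv, hbuv⟩, eq_of_app hR.1 (length_rotP u v) fun n hn => ?_⟩
  have hn' : n < 256 := by revert n; decide
  have A : Anis u v := ⟨hult, hvlt, hqu, hqv, hbuv⟩
  -- remove the projection
  set pr := (bif bb n v then u else 0) ^^^ (bif bb n u then v else 0) with hpr
  have hpl : pr < 256 := lt_xor (by cases bb n v <;> simp [hult]) (by cases bb n u <;> simp [hvlt])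
  have b1 : bb (n ^^^ pr) u = false := by
    rw [bb_xor_left, hpr, bb_xor_left]
    cases bb n u <;> cases bb n v <;> simp [bb_self, bb_comm v u, hbuv, bb_comm 0, bb_zero]
  have b2 : bb (n ^^^ pr) v = false := by
    rw [bb_xor_left, hpr, bb_xor_left]
    cases bb n u <;> cases bb n v <;> simp [bb_self, hbuv, bb_comm 0, bb_zero]
  have hn1 := lt_xor hn' hpl
  have hmove : app R (n ^^^ pr) = n ^^^ pr := by
    have hbR : ∀ a < 256, bb (app R (n ^^^ pr)) (app R a) = bb (n ^^^ pr) a := fun a ha => by
      unfold bb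
      rw [← app_xor, (hR.2 _ hn1).2, (hR.2 a ha).2, (hR.2 _ (lt_xor hn1 ha)).2]
    have c1 : bb (app R (n ^^^ pr)) v = false := by rw [hbR u hult, b1]
    have c2 : bb (app R (n ^^^ pr)) (u ^^^ v) = false := by rw [← hRv, hbR v hvlt, b2]
    have c3 : bb (app R (n ^^^ pr)) u = false := by rw [bb_xor_right, c1] at c2; simpa using c2
    refine (Nat.xor_eq_zero_iff.1 ?_).symm
    have d1 : bb ((n ^^^ pr) ^^^ app R (n ^^^ pr)) u = false := by rw [bb_xor_left, b1, c3]; rfl
    have d2 : bb ((n ^^^ pr) ^^^ app R (n ^^^ pr)) v = false := by rw [bb_xor_left, b2, c1]; rfl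
    rcases hclosed _ (Finset.mem_image.2 ⟨_, Finset.mem_range.2 hn1, rfl⟩) with e | e | e | e
    · exact e
    · rw [e, hbuv] at d2; simp at d2
    · rw [e, bb_comm v u, hbuv] at d1; simp at d1
    · rw [e, bb_xor_left, bb_self, hbuv] at d2; simp at d2
  have hRn : app R n = (n ^^^ pr) ^^^ app R pr := by
    rw [← hmove, ← app_xor, Nat.xor_assoc, Nat.xor_self, Nat.xor_zero]
  rw [hRn, app_rotP u v hn', hpr, rotD, app_xor]
  cases bb n u <;> cases bb n v <;>
    simp [app_zero, ← hvdef, hRv, Nat.xor_assoc, Nat.xor_comm, Nat.xor_left_comm, Nat.xor_self]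

end CfsgLib.Recog.CoOneThree
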