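import Cfsg.Agent.Lib.Recog.CoOneType.Separate
import Cfsg.Agent.Lib.Recog.CoOneThree.Rot

set_option autoImplicit false
set_option linter.unusedSectionVars false
set_option maxRecDepth 100000
set_option Elab.async false

/-!
Elements of order three of the centraliser in a group of Conway type that rotate a plane (owner: helper22).
-/

namespace CfsgLib.Recog.CoOneThree

open CfsgLib.Recog.CoOneType CfsgLib.ThreeTrans

variable {G : Type*} [Group G] [Finite G] {z : G} {Q : Subgroup G} {p : G → Nat} (h : Sys z Q p)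
include h

theorem acts_cube {R : List Nat} (hl : R.length = 8) {x : G} (hx : Acts z Q p x R) :
    Acts z Q p (x * (x * x)) (comp R (comp R R)) :=
  h.acts_mul (by rw [length_comp, hl]) hx (h.acts_mul hl hx hx)

theorem sg_cube {i : Bool} (e : sg z i * sg z i * sg z i = 1) : sg z i = 1 := by
  rwa [h.sg_mul, Bool.xor_self, show sg z false = 1 from rfl, one_mul] at e

/-- an element of order three centralises what it fixes -/
theorem commute_of_fix {R : List Nat} {x a : G} (hx3 : x * x * x = 1) (hx : Acts z Q p x R) (ha : a ∈ Q)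
    (hfix : app R (p a) = p a) : Commute x a := by
  obtain ⟨i, e⟩ := h.eq_of_p ha (h.large.conj_mem hx.1 ha) (by rw [hx.2 a ha, hfix])
  have hs := h.sg_comm hx.1 i
  have e2 : x * x * a * (x * x)⁻¹ = a * (sg z i * sg z i) := by
    calc x * x * a * (x * x)⁻¹ = x * (x * a * x⁻¹) * x⁻¹ := by group
      _ = x * (a * sg z i) * x⁻¹ := by rw [e]
      _ = x * a * x⁻¹ * (x * sg z i * x⁻¹) := by group
      _ = _ := by rw [hs.eq, mul_inv_cancel_right, e, mul_assoc]
  have e3 : a = a * (sg z i * sg z i * sg z i) := by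
    calc a = x * x * x * a * (x * x * x)⁻¹ := by rw [hx3]; group
      _ = x * (x * x * a * (x * x)⁻¹) * x⁻¹ := by group
      _ = x * a * x⁻¹ * (x * (sg z i * sg z i) * x⁻¹) := by rw [e2]; group
      _ = _ := by rw [(hs.mul_right hs).eq, mul_inv_cancel_right, e]; group
  rw [sg_cube h (by simpa using e3.symm), mul_one] at e
  exact mul_inv_eq_iff_eq_mul.1 e

/-- elements of order three with the same action are conjugate under the core -/
theorem coset_conj {R : List Nat} (hl : R.length = 8) (hR3 : comp R (comp R R) = one) {x x' : G} (hx3 : x * x * x = 1)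
    (hx'3 : x' * x' * x' = 1) (hx : Acts z Q p x R) (hx' : Acts z Q p x' R) :
    ∃ q ∈ Q, q * x * q⁻¹ = x' ∧ ∃ m < 256, p q = m ^^^ app R m := by
  have hxi : x⁻¹ = x * x := inv_eq_of_mul_eq_one_right (by rw [← mul_assoc, hx3])
  have hR2 : Acts z Q p x⁻¹ (comp R R) := hxi ▸ h.acts_mul hl hx hx
  have hr : x⁻¹ * x' ∈ Q := h.inv_mul_mem hx hx'
  set r := x⁻¹ * x' with hrdef
  set u := p r with hu
  have hlt : u < 256 := h.lt r hr
  have hRu : app R u < 256 := by rw [hu, ← hx.2 r hr]; exact h.lt _ (h.large.conj_mem hx.1 hr)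
  have hsum : app R u ^^^ app R (app R u) ^^^ u = 0 := by
    have e : x * r * x⁻¹ * (x * x * r * (x * x)⁻¹) * r = 1 := by
      calc x * r * x⁻¹ * (x * x * r * (x * x)⁻¹) * r
          = x * r * (x * r) * (x⁻¹ * x⁻¹) * r := by group
        _ = x * r * (x * r) * x * r := by
          rw [show x⁻¹ * x⁻¹ = x by rw [hxi, show x * x * (x * x) = x * x * x * x by group, hx3, one_mul]]
        _ = x' * x' * x' := by rw [hrdef]; group
        _ = 1 := hx'3
    have h1 := h.large.conj_mem hx.1 hr
    have hxx : Acts z Q p (x * x) (comp R R) := h.acts_mul hl hx hx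
    have h2 := h.large.conj_mem hxx.1 hr
    have := congrArg p e
    rw [h.map_mul _ (Q.mul_mem h1 h2) _ hr, h.map_mul _ h1 _ h2, hx.2 r hr, hxx.2 r hr, app_comp hl, h.p_one] at this
    exact this
  obtain ⟨q, hq, hpq⟩ := h.surj (u ^^^ app R u) (lt_xor hlt hRu)
  have hm : x⁻¹ * q * x⁻¹⁻¹ ∈ Q := h.large.conj_mem hx.1.inv_left hq
  have hp : p (x⁻¹ * q * x⁻¹⁻¹ * q⁻¹) = u := by
    rw [h.map_mul _ hm _ (Q.inv_mem hq), h.p_inv hq, hR2.2 q hq, app_comp hl, hpq]
    have h3 : app R (app R (app R u)) = u := by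
      rw [← app_comp hl, ← app_comp hl, show comp (comp R R) R = one from ?_, app_one u hlt]
      refine (eq_of_app (by rw [length_comp, hl]) rfl fun n hn => ?_)
      rw [app_comp hl, app_comp hl, ← hR3, app_comp (by rw [length_comp, hl]), app_comp hl]
    rw [app_xor, app_xor, h3]
    have e' : app R (app R u) = app R u ^^^ u := by
      rw [← Nat.xor_eq_zero_iff, ← hsum]; ac_rfl
    rw [e', Nat.xor_comm u (app R u)]
    simp [← Nat.xor_assoc]
  obtain ⟨i, e⟩ := h.eq_of_p (Q.mul_mem hm (Q.inv_mem hq)) hr hp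
  have hx'eq : x' = q * x * q⁻¹ * sg z i := by
    calc x' = x * r := by rw [hrdef]; group
      _ = _ := by rw [e]; group
  have hqz : Commute (q * x * q⁻¹) (sg z i) :=
    h.sg_comm (((h.large.commute_z hq).mul_left hx.1).mul_left (h.large.commute_z hq).inv_left) i
  have hi : sg z i = 1 := by
    refine sg_cube h ?_
    have e3 : (q * x * q⁻¹ * sg z i) ^ 3 = 1 := by
      rw [← hx'eq, pow_succ, pow_two]; exact hx'3
    rw [hqz.mul_pow, conj_pow, pow_succ x, pow_two x, hx3, mul_one, mul_inv_cancel, one_mul, pow_succ, pow_two] at e3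
    exact e3
  exact ⟨q, hq, by rw [hx'eq, hi, mul_one], u, hlt, hpq⟩

theorem iso_bb {W : List Nat} (hW : Iso W) {a b : Nat} (ha : a < 256) (hb : b < 256) :
    bb (app W a) (app W b) = bb a b := CoOneType.Iso.bb_app hW ha hb

/-- conjugating a rotation -/
theorem conj_rot {u v u' v' : Nat} (A : Anis u v) {W : List Nat} (hW : Iso W) {c x : G} (hc : Acts z Q p c W)
    (hx : Acts z Q p x (rotP u v)) (hu : app W u = u') (hv : app W v = v') :
    Acts z Q p (c * x * c⁻¹) (rotP u' v') := by
  refine h.acts_conj hW.1 (length_rotP u v) (length_rotP u' v') hc hx ?_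
  refine eq_of_app (by rw [length_comp, length_rotP]) (by rw [length_comp, hW.1]) fun n hn => ?_
  have hn' : n < 256 := by revert n; decide
  rw [app_comp (length_rotP u v), app_comp hW.1, app_rotP u v hn', app_rotP u' v' (hW.2 n hn').1, app_xor, rotD, rotD,
    ← hu, ← hv, iso_bb h hW hn' A.v_lt, iso_bb h hW hn' A.u_lt]
  cases bb n v <;> cases bb n u <;> simp [app_zero, app_xor]

/-- an element of order three moving inside a small group can be carried to the standard rotation -/
theorem exists_carry {x : G} {R : List Nat} (hR : Iso R) (hx : Acts z Q p x R) (hx3 : x * x * x = 1) (hx1 : x ≠ 1)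
    (hI : ((Finset.range 256).image fun n => n ^^^ app R n).card ≤ 8) :
    ∃ c W, Iso W ∧ Acts z Q p c W ∧ Acts z Q p (c * x * c⁻¹) rot0 := by
  have hR3 : comp R (comp R R) = one := by
    refine h.acts_unique (by rw [length_comp, length_comp, hR.1]) rfl (acts_cube h hR.1 hx) ?_
    rw [← mul_assoc, hx3]
    exact h.acts_one
  have hne : R ≠ one := by
    intro e
    have hm := h.mem_of_acts_one (e ▸ hx)
    refine hx1 ?_
    have h2 : x * x = sg z (qb (p x)) := h.sq x hm
    have h4 : x * x * (x * x) = 1 := by rw [h2, h.sg_mul, Bool.xor_self]; rfl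
    rwa [show x * x * (x * x) = x * x * x * x by group, hx3, one_mul] at h4
  obtain ⟨u, v, A, rfl⟩ := exists_rot hR hR3 hne hI
  obtain ⟨W, c, hW, hc, hu, hv⟩ := A.exists_word h
  exact ⟨c, W, hW, hc, conj_rot h A hW hc hx hu hv⟩

/-- an element moving inside a group of order eight moves inside a small group -/
theorem moved_card {x : G} {R : List Nat} (hx : Acts z Q p x R) (M : Subgroup G) (hM : M ≤ Q)
    (hcard : Nat.card M = 8) (hmem : ∀ q ∈ Q, q * x * q⁻¹ * x⁻¹ ∈ M) :
    ((Finset.range 256).image fun n => n ^^^ app R n).card ≤ 8 := by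
  classical
  haveI := Fintype.ofFinite M
  refine le_trans (Finset.card_le_card (t := Finset.univ.image fun m : M => p (m : G)) ?_)
    (Finset.card_image_le.trans (by rw [Finset.card_univ, ← Nat.card_eq_fintype_card, hcard]))
  intro t ht
  obtain ⟨n, hn, rfl⟩ := Finset.mem_image.1 ht
  obtain ⟨q, hq, rfl⟩ := h.surj n (Finset.mem_range.1 hn)
  refine Finset.mem_image.2 ⟨⟨_, hmem q hq⟩, Finset.mem_univ _, ?_⟩
  show p (q * x * q⁻¹ * x⁻¹) = _
  rw [show q * x * q⁻¹ * x⁻¹ = q * (x * q⁻¹ * x⁻¹) by group,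
    h.map_mul _ hq _ (h.large.conj_mem hx.1 (Q.inv_mem hq)), hx.2 _ (Q.inv_mem hq), h.p_inv hq]

omit h

/-- a standard element of order three -/
structure Std (z : G) (Q : Subgroup G) (p : G → Nat) (k x : G) : Prop where
  frame : Frame z Q p k
  cube : x * x * x = 1
  act : Acts z Q p x rot0

/-- coordinates in which the element is standard -/
theorem exists_std {z : G} {Q : Subgroup G} (hH : Hyp z Q) (hn : ∃ g : G, g * z * g⁻¹ ∈ Q ∧ g * z * g⁻¹ ≠ z) {x : G}
    (hx3 : x * x * x = 1) (hx1 : x ≠ 1) (hxz : Commute x z) (M : Subgroup G) (hM : M ≤ Q) (hcard : Nat.card M = 8)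
    (hmem : ∀ q ∈ Q, q * x * q⁻¹ * x⁻¹ ∈ M) : ∃ p k, Std z Q p k x := by
  obtain ⟨p, k, F⟩ := hH.exists_frame hn
  obtain ⟨R, hR, hRx⟩ := F.sys.exists_acts hxz
  obtain ⟨c, W, -, hc, hcx⟩ := exists_carry F.sys hR hRx hx3 hx1 (moved_card F.sys hRx M hM hcard hmem)
  have hcz : c⁻¹ * z * c⁻¹⁻¹ = z := by rw [hc.1.inv_left.eq, mul_inv_cancel_right]
  have hcQ : Q.map (MulAut.conj c⁻¹).toMonoidHom = Q := by
    ext a
    rw [mem_conjMap, inv_inv]
    refine ⟨fun ha => ?_, fun ha => F.sys.large.conj_mem hc.1 ha⟩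
    have := F.sys.large.conj_mem hc.1.inv_left ha
    rwa [show c⁻¹ * (c * a * c⁻¹) * c⁻¹⁻¹ = a by group] at this
  have hF := F.move c⁻¹
  rw [hcz, hcQ] at hF
  refine ⟨_, _, hF, hx3, hxz, fun a ha => ?_⟩
  show p _ = app rot0 (p _)
  rw [show c⁻¹⁻¹ * (x * a * x⁻¹) * c⁻¹ = c * x * c⁻¹ * (c⁻¹⁻¹ * a * c⁻¹) * (c * x * c⁻¹)⁻¹ by group]
  exact hcx.2 _ (by rw [inv_inv]; exact F.sys.large.conj_mem hc.1 ha)

theorem hm_facts : ((List.range 256).filter fun v => sect.contains v && app rot0 v == v).length = 16 ∧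
    (sect.all fun v => !(app rot0 v == v) || comp rot0 (rho v) == comp (rho v) rot0) = true := by
  refine ⟨?_, ?_⟩ <;> decide +kernel

/-- a fusing element in the centraliser of the element of order three -/
theorem Std.exists_swap {k x : G} (S : Std z Q p k x) : ∃ g, Commute x g ∧ g * z * g⁻¹ ∈ Q ∧ g * z * g⁻¹ ≠ z := by
  classical
  have F := S.frame
  have h := F.sys
  set X := k * z * k⁻¹ with hX
  have hxX : Commute x X := commute_of_fix h S.cube S.act F.memQ (by rw [F.px]; exact rot0_facts.2.2.1)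
  set x' := k⁻¹ * x * k with hx'
  have hx'3 : x' * x' * x' = 1 := by
    calc x' * x' * x' = k⁻¹ * (x * x * x) * k := by rw [hx']; group
      _ = 1 := by rw [S.cube]; group
  have hx'1 : x' ≠ 1 := by
    intro e
    have e1 : x = 1 := by
      calc x = k * x' * k⁻¹ := by rw [hx']; group
        _ = 1 := by rw [e]; group
    exact absurd (h.acts_unique rfl rot0_facts.1 h.acts_one (e1 ▸ S.act)) (by decide +kernel)
  have hx'z : Commute x' z := by
    show x' * z = z * x'
    calc x' * z = k⁻¹ * (x * X) * k := by rw [hx', hX]; group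
      _ = _ := by rw [hxX.eq, hx', hX]; group
  obtain ⟨R, hR, hRx⟩ := h.exists_acts hx'z
  -- the fixed vectors
  set L := (List.range 256).filter fun v => sect.contains v && app rot0 v == v with hL
  have hLmem : ∀ v ∈ L, v ∈ sect ∧ app rot0 v = v := fun v hv => by
    have := (List.mem_filter.1 hv).2
    simpa using this
  have hs : ∀ v ∈ L, Commute x (sOf z Q p k v) := by
    intro v hv
    obtain ⟨hvs, hv0⟩ := hLmem v hv
    obtain ⟨hsP, hsz, hsA⟩ := F.sOf_spec hvs
    have hcomm : comp rot0 (rho v) = comp (rho v) rot0 := by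
      have := List.all_eq_true.1 hm_facts.2 v hvs
      simpa [hv0] using this
    generalize sOf z Q p k v = s at hsP hsz hsA
    have hys : x * s * x⁻¹ ∈ Q.map (MulAut.conj k).toMonoidHom := F.sys'.large.conj_mem hxX hsP
    have hact : Acts z Q p (x * s * x⁻¹) (rho v) :=
      h.acts_conj rot0_facts.1 (length_rho v) (length_rho v) S.act hsA hcomm
    obtain ⟨i, j, e⟩ := F.inter (h.inv_mul_mem hsA hact) (Subgroup.mul_mem _ (Subgroup.inv_mem _ hsP) hys)
    have hxe : Commute x (sg z i * sg X j) := F.pair_comm S.act.1 hxX i j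
    have he2 : (sg z i * sg X j) * (sg z i * sg X j) = 1 := by
      rw [F.pair_mul, Bool.xor_self, Bool.xor_self]; simp [sg]
    have e1 : x * s * x⁻¹ = s * (sg z i * sg X j) := by rw [← e, mul_inv_cancel_left]
    have e2 : x * x * s * (x * x)⁻¹ = s := by
      calc x * x * s * (x * x)⁻¹ = x * (x * s * x⁻¹) * x⁻¹ := by group
        _ = x * (s * (sg z i * sg X j)) * x⁻¹ := by rw [e1]
        _ = x * s * x⁻¹ * (x * (sg z i * sg X j) * x⁻¹) := by group
        _ = _ := by rw [hxe.eq, mul_inv_cancel_right, e1, mul_assoc, he2, mul_one]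
    have e3 : x * s * x⁻¹ = s := by
      calc x * s * x⁻¹ = x * (x * x * s * (x * x)⁻¹) * x⁻¹ := by rw [e2]
        _ = x * x * x * s * (x * x * x)⁻¹ := by group
        _ = s := by rw [S.cube]; group
    exact mul_inv_eq_iff_eq_mul.1 e3
  have hfix : ∀ v ∈ L, app R (hm z Q p k v) = hm z Q p k v := by
    intro v hv
    obtain ⟨hsP, -, -⟩ := F.sOf_spec (hLmem v hv).1
    have hm' : k⁻¹ * sOf z Q p k v * k ∈ Q := mem_conjMap.1 hsP
    rw [hm, ← hRx.2 _ hm']
    congr 1
    calc x' * (k⁻¹ * sOf z Q p k v * k) * x'⁻¹ = k⁻¹ * (x * sOf z Q p k v * x⁻¹) * k := by rw [hx']; group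
      _ = _ := by rw [(hs v hv).eq, mul_inv_cancel_right]
  have hfix1 : app R 1 = 1 := by
    rw [← F.pz, ← hRx.2 _ F.memP]
    congr 1
    calc x' * (k⁻¹ * z * k) * x'⁻¹ = k⁻¹ * (x * z * x⁻¹) * k := by rw [hx']; group
      _ = _ := by rw [S.act.1.eq, mul_inv_cancel_right]
  let Fx : Finset Nat := (Finset.range 256).filter fun n => app R n = n
  have hFx : 32 ≤ Fx.card := by
    let f : Fin L.length × Bool → Nat := fun t => hm z Q p k (L[t.1.1]'t.1.2) ^^^ (bif t.2 then 1 else 0)
    have hf : Function.Injective f := by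
      rintro ⟨i, b⟩ ⟨j, b'⟩ e
      have hi := (hLmem _ (List.getElem_mem i.2)).1
      have hj := (hLmem _ (List.getElem_mem j.2)).1
      obtain ⟨s, hs'⟩ := F.hm_xor hi hj
      have e' : hm z Q p k L[i.1] ^^^ hm z Q p k L[j.1] = (bif b then 1 else 0) ^^^ (bif b' then 1 else 0) := by
        change hm z Q p k L[i.1] ^^^ _ = hm z Q p k L[j.1] ^^^ _ at e
        calc hm z Q p k L[i.1] ^^^ hm z Q p k L[j.1]
            = (hm z Q p k L[i.1] ^^^ (bif b then 1 else 0)) ^^^ (hm z Q p k L[j.1] ^^^ (bif b' then 1 else 0)) ^^^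
                ((bif b then 1 else 0) ^^^ (bif b' then 1 else 0)) := by
              generalize hm z Q p k L[i.1] = A
              generalize hm z Q p k L[j.1] = B
              cases b <;> cases b' <;> simp [Nat.xor_assoc, Nat.xor_comm, Nat.xor_left_comm]
          _ = _ := by rw [e, Nat.xor_self, Nat.zero_xor]
      have huv : L[i.1] ^^^ L[j.1] = 0 := by
        refine F.hm_inj (List.contains_iff_mem.1 (List.all_eq_true.1 (List.all_eq_true.1 sect_xor _ hi) _ hj)) ?_
        rw [hs', e']
        cases b <;> cases b' <;> cases s <;> simp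
      have hnd : L.Nodup := List.Nodup.filter _ List.nodup_range
      obtain rfl : i = j := Fin.ext ((List.Nodup.getElem_inj_iff hnd).1 (Nat.xor_eq_zero_iff.1 huv))
      rw [Nat.xor_self] at e'
      cases b <;> cases b' <;> first | rfl | exact absurd e' (by decide)
    have hsub : Finset.univ.image f ⊆ Fx := by
      intro n hn
      obtain ⟨⟨i, b⟩, -, rfl⟩ := Finset.mem_image.1 hn
      have hv := List.getElem_mem i.2 (l := L)
      refine Finset.mem_filter.2 ⟨Finset.mem_range.2 ?_, ?_⟩
      · exact lt_xor (F.hm_spec (hLmem _ hv).1).1 (by cases b <;> simp)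
      · show app R (_ ^^^ _) = _ ^^^ _
        rw [app_xor, hfix _ hv]
        cases b
        · rw [show (bif false then 1 else 0) = 0 from rfl, app_zero]
        · rw [show (bif true then 1 else 0) = 1 from rfl, hfix1]
    have := Finset.card_le_card hsub
    rw [Finset.card_image_of_injective _ hf, Finset.card_univ, Fintype.card_prod, Fintype.card_fin,
      Fintype.card_bool, show L.length = 16 from hm_facts.1] at this
    exact this
  have hI : ((Finset.range 256).image fun n => n ^^^ app R n).card ≤ 8 := by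
    have hcount : ∀ u ∈ (Finset.range 256).image fun n => n ^^^ app R n,
        32 ≤ ((Finset.range 256).filter fun n => (n ^^^ app R n) = u).card := by
      intro u hu
      obtain ⟨m, hm, rfl⟩ := Finset.mem_image.1 hu
      rw [Finset.mem_range] at hm
      refine hFx.trans (le_trans (Finset.card_image_of_injective Fx (f := fun n => m ^^^ n)
        (fun a b e => by simpa [← Nat.xor_assoc] using congrArg (fun t => m ^^^ t) e)).ge (Finset.card_le_card ?_))
      intro t ht
      obtain ⟨n, hn, rfl⟩ := Finset.mem_image.1 ht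
      obtain ⟨hn', hfn⟩ := Finset.mem_filter.1 hn
      refine Finset.mem_filter.2 ⟨Finset.mem_range.2 (lt_xor hm (Finset.mem_range.1 hn')), ?_⟩
      rw [app_xor, hfn]
      generalize app R m = w
      simp [Nat.xor_assoc, Nat.xor_comm, Nat.xor_left_comm]
    have hmul := Finset.mul_card_image_le_card_of_maps_to (f := fun n => n ^^^ app R n) (s := Finset.range 256)
      (t := (Finset.range 256).image fun n => n ^^^ app R n) (fun n hn => Finset.mem_image_of_mem _ hn) 32 hcount
    rw [Finset.card_range] at hmul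
    omega
  obtain ⟨c, W, -, hc, hcx⟩ := exists_carry h hR hRx hx'3 hx'1 hI
  obtain ⟨q, hq, he, -⟩ := coset_conj h rot0_facts.1 rot0_facts.2.1
    (show c * x' * c⁻¹ * (c * x' * c⁻¹) * (c * x' * c⁻¹) = 1 by
      calc c * x' * c⁻¹ * (c * x' * c⁻¹) * (c * x' * c⁻¹) = c * (x' * x' * x') * c⁻¹ := by group
        _ = 1 := by rw [hx'3]; group) S.cube hcx S.act
  have hqc : Commute (q * c) z := (h.large.commute_z hq).mul_left hc.1
  have hg : (k * (q * c)⁻¹) * z * (k * (q * c)⁻¹)⁻¹ = X := by
    rw [show k * (q * c)⁻¹ * z * (k * (q * c)⁻¹)⁻¹ = k * ((q * c)⁻¹ * z * (q * c)⁻¹⁻¹) * k⁻¹ by group,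
      hqc.inv_left.eq, mul_inv_cancel_right]
  refine ⟨k * (q * c)⁻¹, ?_, by rw [hg]; exact F.memQ, by rw [hg]; exact F.x_ne_z⟩
  have e : k * (q * c)⁻¹ * x * (k * (q * c)⁻¹)⁻¹ = x := by
    conv_lhs => rw [← he]
    rw [hx']
    group
  exact (mul_inv_eq_iff_eq_mul.1 e).symm

end CfsgLib.Recog.CoOneThree
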