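import Cfsg.Agent.Lib.Recog.CoOneThree.Quot
import Cfsg.Agent.Lib.Recog.SuzIso.Main
import Cfsg.Agent.Lib.Recog.SuzThree.FromHyp

set_option autoImplicit false
set_option linter.unusedSectionVars false
set_option maxRecDepth 100000
set_option Elab.async false

/-!
The centraliser of the element of order three is perfect (owner: helper22).
-/

namespace CfsgLib.Recog.CoOneThree

open CfsgLib.Recog.CoOneType CfsgLib.ThreeTrans
open scoped commutatorElement

/-- the rotation of a perpendicular plane -/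
def rot1 : List Nat := rotP 3 29

/-- the outer map -/
def flip0 : List Nat := comp (comp (refl 56) (refl 7)) (comp (refl 7) (refl 28))

theorem rot1_facts : rot1.length = 8 ∧ comp rot1 (comp rot1 rot1) = one ∧ comp rot1 rot0 = comp rot0 rot1 ∧
    flip0.length = 8 ∧ comp flip0 rot0 = comp (comp rot0 rot0) flip0 ∧ comp flip0 rot1 = comp rot1 flip0 ∧
    comp one rot1 = rot1 ∧
    ((List.range 256).all fun n => [0, 3, 29, 30].contains (n ^^^ app rot1 n) && fix0.contains (n ^^^ app rot1 n)) = true ∧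
    bb 3 29 = true ∧ [0, 3, 29, 30].all (fun n => fix0.contains n && ([0, 3, 29, 30].all fun m =>
      [0, 3, 29, 30].contains (n ^^^ m))) = true := by
  refine ⟨?_, ?_, ?_, ?_, ?_, ?_, ?_, ?_, ?_, ?_⟩ <;> decide +kernel

theorem anis1 : Anis 3 29 := ⟨by norm_num, by norm_num, by decide +kernel, by decide +kernel, by decide +kernel⟩

theorem gen_ok : qb 56 = true ∧ qb 7 = true ∧ qb 28 = true ∧ bb 56 7 = true ∧ bb 7 28 = true := by decide +kernel

variable {G : Type*} [Group G] [Finite G] {z : G} {Q : Subgroup G} {p : G → Nat} {k x : G} (S : Std z Q p k x)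
include S

/-- a second element of order three, with an inverter of the first centralising it -/
theorem exists_second : ∃ w d c : G, w * w * w = 1 ∧ Acts z Q p w rot1 ∧ Commute w x ∧ d * x * d⁻¹ = x * x ∧
    d * w * d⁻¹ = w ∧ c * w * c⁻¹ = x := by
  have h := S.frame.sys
  obtain ⟨r1, r3, hc01, lf, hf0, hf1, ho1, hmoved, -, -⟩ := rot1_facts
  obtain ⟨W, c0, hW, hc0, hu, hv⟩ := anis1.exists_word h
  obtain ⟨V, hV, hVc⟩ := h.exists_acts hc0.1.inv_left
  have hback : ∀ {a b : Nat}, a < 256 → app W a = b → app V b = a := fun ha e => by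
    rw [← e, ← app_comp hW.1, show comp V W = one from h.acts_unique (by rw [length_comp, hW.1]) rfl
      (h.acts_mul hW.1 hVc hc0) (by rw [inv_mul_cancel]; exact h.acts_one), app_one _ ha]
  have hy : Acts z Q p (c0⁻¹ * x * c0⁻¹⁻¹) rot1 :=
    conj_rot h anis0 hV hVc S.act (hback (by norm_num) hu) (hback (by norm_num) hv)
  set y := c0⁻¹ * x * c0⁻¹⁻¹ with hydef
  have hy3 : y * y * y = 1 := by
    calc y * y * y = c0⁻¹ * (x * x * x) * c0⁻¹⁻¹ := by rw [hydef]; group
      _ = 1 := by rw [S.cube]; group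
  obtain ⟨q, hq, he, -⟩ := coset_conj h rot0_facts.1 rot0_facts.2.1
    (show y * x * y⁻¹ * (y * x * y⁻¹) * (y * x * y⁻¹) = 1 by
      calc y * x * y⁻¹ * (y * x * y⁻¹) * (y * x * y⁻¹) = y * (x * x * x) * y⁻¹ := by group
        _ = 1 := by rw [S.cube]; group) S.cube
    (h.acts_conj r1 rot0_facts.1 rot0_facts.1 hy S.act hc01) S.act
  have hcx : Commute (q * y) x := mul_inv_eq_iff_eq_mul.1 (by
    rw [show q * y * x * (q * y)⁻¹ = q * (y * x * y⁻¹) * q⁻¹ by group, he])
  have hca : Acts z Q p (q * y) rot1 := by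
    have := h.acts_mul r1 (h.acts_of_mem hq) hy
    rwa [ho1] at this
  generalize q * y = c1 at hcx hca
  have hc3 : c1 * (c1 * c1) ∈ Q := h.mem_of_acts_one (r3 ▸ acts_cube h r1 hca)
  have h4 : (c1 * (c1 * c1)) ^ 4 = 1 := by
    rw [show (4 : ℕ) = 2 * 2 from rfl, pow_mul, pow_two (c1 * (c1 * c1)), h.sq _ hc3, pow_two, h.sg_mul, Bool.xor_self]
    rfl
  have hw3 : c1 ^ 4 * c1 ^ 4 * c1 ^ 4 = 1 := by
    calc c1 ^ 4 * c1 ^ 4 * c1 ^ 4 = (c1 ^ 3) ^ 4 := by rw [← pow_add, ← pow_add, ← pow_mul]
      _ = (c1 * (c1 * c1)) ^ 4 := by rw [show c1 ^ 3 = c1 * (c1 * c1) by rw [pow_succ, pow_two, mul_assoc]]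
      _ = 1 := h4
  have hwa : Acts z Q p (c1 ^ 4) rot1 := by
    have := h.acts_mul r1 (h.acts_of_mem hc3) hca
    rw [ho1] at this
    rwa [show c1 ^ 4 = c1 * (c1 * c1) * c1 by rw [pow_succ, pow_succ, pow_two, mul_assoc c1 c1 c1]]
  have hwx : Commute (c1 ^ 4) x := hcx.pow_left 4
  generalize c1 ^ 4 = w at hw3 hwa hwx
  obtain ⟨q2, -, he2, -⟩ := coset_conj h r1 r3 hw3 hy3 hwa hy
  obtain ⟨g1, g2, g3, g4, g5⟩ := gen_ok
  obtain ⟨c2, hc2⟩ := h.gen 56 7 (by norm_num) (by norm_num) g1 g2 g4
  obtain ⟨c3, hc3'⟩ := h.gen 7 28 (by norm_num) (by norm_num) g2 g3 g5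
  have hd0 : Acts z Q p (c2 * c3) flip0 := h.acts_mul (by rw [length_comp, length_refl]) hc2 hc3'
  generalize c2 * c3 = d0 at hd0
  obtain ⟨q3, hq3, he3, -⟩ := coset_conj h (by rw [length_comp, rot0_facts.1]) (by decide +kernel)
    (show d0 * x * d0⁻¹ * (d0 * x * d0⁻¹) * (d0 * x * d0⁻¹) = 1 by
      calc d0 * x * d0⁻¹ * (d0 * x * d0⁻¹) * (d0 * x * d0⁻¹) = d0 * (x * x * x) * d0⁻¹ := by group
        _ = 1 := by rw [S.cube]; group)
    (show x * x * (x * x) * (x * x) = 1 by
      calc x * x * (x * x) * (x * x) = x * x * x * (x * x * x) := by group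
        _ = 1 := by rw [S.cube, mul_one])
    (h.acts_conj lf rot0_facts.1 (by rw [length_comp, rot0_facts.1]) hd0 S.act hf0)
    (h.acts_mul rot0_facts.1 S.act S.act)
  have hd1 : Acts z Q p (q3 * d0) flip0 := by
    have := h.acts_mul lf (h.acts_of_mem hq3) hd0
    rwa [show comp one flip0 = flip0 by decide +kernel] at this
  have hdx : (q3 * d0) * x * (q3 * d0)⁻¹ = x * x := by rw [← he3]; group
  generalize q3 * d0 = d1 at hd1 hdx
  obtain ⟨q4, hq4, he4, m, hm, hpq⟩ := coset_conj h r1 r3
    (show d1 * w * d1⁻¹ * (d1 * w * d1⁻¹) * (d1 * w * d1⁻¹) = 1 by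
      calc d1 * w * d1⁻¹ * (d1 * w * d1⁻¹) * (d1 * w * d1⁻¹) = d1 * (w * w * w) * d1⁻¹ := by group
        _ = 1 := by rw [hw3]; group) hw3 (h.acts_conj lf r1 r1 hd1 hwa hf1) hwa
  have hfix := List.all_eq_true.1 hmoved m (List.mem_range.2 hm)
  simp only [Bool.and_eq_true, List.contains_iff_mem] at hfix
  have hqx : Commute q4 x :=
    mem_centralizer_singleton_iff'.1 (((mem_core S).2 ⟨hq4, hpq ▸ hfix.2⟩ : q4 ∈ coreQ Q x)).2
  refine ⟨w, q4 * d1, c0 * q2, hw3, hwa, hwx, ?_, ?_, ?_⟩
  · rw [show q4 * d1 * x * (q4 * d1)⁻¹ = q4 * (d1 * x * d1⁻¹) * q4⁻¹ by group, hdx, (hqx.mul_right hqx).eq,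
      mul_inv_cancel_right]
  · rw [show q4 * d1 * w * (q4 * d1)⁻¹ = q4 * (d1 * w * d1⁻¹) * q4⁻¹ by group, he4]
  · rw [show c0 * q2 * w * (c0 * q2)⁻¹ = c0 * (q2 * w * q2⁻¹) * c0⁻¹ by group, he2, hydef]
    group

variable {H : Type*} [Group H] [Finite H]

/-- quasisimplicity and the isomorphism type -/
theorem main (π : Subgroup.centralizer ({x} : Set G) →* H) (hsurj : Function.Surjective π)
    (hker : ∀ c, π c = 1 ↔ (c : G) ∈ Subgroup.zpowers x) :
    Cfsg.Spor.IsoSuz H ∧ Cfsg.IsQuasisimple ↥(Subgroup.centralizer ({x} : Set G)) := by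
  classical
  obtain ⟨r1, r3, -, -, -, -, -, hmoved, hb, hline⟩ := rot1_facts
  have h := S.frame.sys
  have hx3 : x ^ 3 = 1 := by rw [pow_succ, pow_two, S.cube]
  have hmem : ∀ {c : G}, Commute c x → c ∈ Subgroup.centralizer ({x} : Set G) := fun hc =>
    mem_centralizer_singleton_iff'.2 hc
  have hcx : ∀ c : Subgroup.centralizer ({x} : Set G), Commute (c : G) x := fun c =>
    mem_centralizer_singleton_iff'.1 c.2
  obtain ⟨z', R', hH', hn', hz', hR'⟩ := quot_hyp S π hsurj hker
  have hiso := CfsgLib.Recog.SuzIso.suz_iso hH' hn'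
  refine ⟨hiso, ?_⟩
  obtain ⟨eS⟩ := hiso
  haveI : IsSimpleGroup Cfsg.Spor.Suz := CfsgLib.Recog.SporBound.SuzGroup.isSimple
  haveI : IsSimpleGroup H := eS.isSimpleGroup
  have hnab : ¬ ∀ a b : H, a * b = b * a := by
    intro hab
    have htop : Subgroup.centralizer ({z'} : Set H) = ⊤ :=
      eq_top_iff.2 fun a _ => mem_centralizer_singleton_iff'.2 (hab a z')
    have := hH'.cardC
    rw [htop, Subgroup.card_top, Nat.card_congr eS.toEquiv,
      CfsgLib.Recog.SporBound.SuzGroup.card_suz_and_faithful.1] at this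
    norm_num at this
  have hcommH : commutator H = ⊤ := by
    refine (Subgroup.Normal.eq_bot_or_eq_top inferInstance).resolve_left fun hb => hnab fun a b => ?_
    have h' := Subgroup.commutator_mem_commutator (Subgroup.mem_top a) (Subgroup.mem_top b)
    rw [← commutator_def, hb, Subgroup.mem_bot] at h'
    exact commutatorElement_eq_one_iff_mul_comm.1 h'
  set K := commutator ↥(Subgroup.centralizer ({x} : Set G)) with hKdef
  have hKmap : K.map π = ⊤ := by
    rw [← hcommH, hKdef, commutator_def, commutator_def, Subgroup.map_commutator,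
      Subgroup.map_top_of_surjective _ hsurj]
  have hsplit : ∀ c, ∃ a ∈ K, ∃ n, π n = 1 ∧ c = a * n := by
    intro c
    obtain ⟨a, ha, e⟩ := (hKmap ▸ Subgroup.mem_top (π c) : π c ∈ K.map π)
    exact ⟨a, ha, a⁻¹ * c, by rw [map_mul, map_inv, e, inv_mul_cancel], (mul_inv_cancel_left a c).symm⟩
  let xC : Subgroup.centralizer ({x} : Set G) := ⟨x, hmem (Commute.refl x)⟩
  have hpow : ∀ n, π n = 1 → n = 1 ∨ n = xC ∨ n = xC * xC := by
    intro n hn
    obtain ⟨i, hi⟩ := mem_powers_iff_mem_zpowers.2 ((hker n).1 hn)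
    have hi' : (n : G) = x ^ (i % 3) := by
      rw [← show x ^ i = (n : G) from hi]
      conv_lhs => rw [← Nat.div_add_mod i 3, pow_add, pow_mul, hx3, one_pow, one_mul]
    have := Nat.mod_lt i (show 3 > 0 by norm_num)
    interval_cases i % 3
    · exact Or.inl (Subtype.ext (by rw [hi', pow_zero]; rfl))
    · exact Or.inr (Or.inl (Subtype.ext (by rw [hi', pow_one])))
    · exact Or.inr (Or.inr (Subtype.ext (by rw [hi', pow_two]; rfl)))
  have hxin : xC ∈ K := by
    by_contra hxno
    have htriv : ∀ n, π n = 1 → n ∈ K → n = 1 := by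
      intro n hn hnK
      rcases hpow n hn with e | e | e
      · exact e
      · exact absurd (e ▸ hnK) hxno
      · refine absurd ?_ hxno
        have : n * n = xC := Subtype.ext (by
          rw [e]
          show x * x * (x * x) = x
          calc x * x * (x * x) = x * x * x * x := by group
            _ = x := by rw [S.cube, one_mul])
        exact this ▸ mul_mem hnK hnK
    obtain ⟨w0, d, c, hw3, hwa, hwx, hdx, hdw, hcw⟩ := exists_second S
    let w : Subgroup.centralizer ({x} : Set G) := ⟨w0, hmem hwx⟩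
    have hdC : ∀ a : Subgroup.centralizer ({x} : Set G), d * (a : G) * d⁻¹ ∈ Subgroup.centralizer ({x} : Set G) := by
      intro a
      refine hmem ?_
      have h2 : Commute (d * (a : G) * d⁻¹) (x * x) := by
        rw [← hdx]
        show d * (a : G) * d⁻¹ * (d * x * d⁻¹) = d * x * d⁻¹ * (d * (a : G) * d⁻¹)
        calc d * (a : G) * d⁻¹ * (d * x * d⁻¹) = d * ((a : G) * x) * d⁻¹ := by group
          _ = _ := by rw [(hcx a).eq]; group
      have : x * x * (x * x) = x := by
        calc x * x * (x * x) = x * x * x * x := by group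
          _ = x := by rw [S.cube, one_mul]
      have h3 := h2.mul_right h2
      rwa [this] at h3
    let δ : Subgroup.centralizer ({x} : Set G) →* Subgroup.centralizer ({x} : Set G) :=
      MonoidHom.mk' (fun a => ⟨d * (a : G) * d⁻¹, hdC a⟩) fun a b => Subtype.ext (by
        show d * ((a : G) * b) * d⁻¹ = d * a * d⁻¹ * (d * b * d⁻¹)
        group)
    have hδK : ∀ a ∈ K, δ a ∈ K := by
      intro a ha
      have hle : K.map δ ≤ K := by
        rw [hKdef, commutator_def, Subgroup.map_commutator]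
        exact Subgroup.commutator_mono le_top le_top
      exact hle ⟨a, ha, rfl⟩
    have hwK : w ∈ K := by
      obtain ⟨a, ha, n, hn, he⟩ := hsplit w
      have hδw : δ w = w := Subtype.ext hdw
      have hδn : δ n = n * n := by
        refine Subtype.ext ?_
        show d * (n : G) * d⁻¹ = (n : G) * n
        rcases hpow n hn with e | e | e <;> rw [e]
        · show d * 1 * d⁻¹ = 1 * 1
          group
        · exact hdx
        · show d * (x * x) * d⁻¹ = x * x * (x * x)
          rw [show d * (x * x) * d⁻¹ = d * x * d⁻¹ * (d * x * d⁻¹) by group, hdx]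
      have hn1 : n = (δ a)⁻¹ * a := by
        have hw' := hδw
        rw [he, map_mul, hδn, ← mul_assoc] at hw'
        rw [eq_inv_mul_iff_mul_eq]
        exact mul_right_cancel hw'
      rw [he, htriv n hn (hn1 ▸ mul_mem (inv_mem (hδK a ha)) ha), mul_one]
      exact ha
    -- the image of the second element in the quotient
    have hπz : ∀ a : Subgroup.centralizer ({x} : Set G), Commute (a : G) z → Commute (π a) (π ⟨z, hmem S.act.1.symm⟩) :=
      fun a ha => by
        show π a * π _ = π _ * π a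
        rw [← map_mul, ← map_mul]
        exact congrArg π (Subtype.ext ha.eq)
    obtain ⟨pp, hpp⟩ := hH'.exists_sys
    have hwz : Commute (π w) z' := by rw [hz' (hmem S.act.1.symm)]; exact hπz w hwa.1
    obtain ⟨A, hA, hAw⟩ := hpp.exists_acts hwz
    have hw1 : π w ≠ 1 := by
      intro e
      have e1 := htriv w e hwK
      have : Acts z Q p 1 rot1 := by
        have e2 : w0 = 1 := congrArg Subtype.val e1
        rwa [e2] at hwa
      exact absurd (h.acts_unique r1 rfl this h.acts_one) (by decide +kernel)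
    have hw3' : π w * π w * π w = 1 := by
      rw [← map_mul, ← map_mul, ← map_one π]; exact congrArg π (Subtype.ext hw3)
    -- the subgroup of order eight
    let M0 : Subgroup G :=
      { carrier := {a | a ∈ Q ∧ p a ∈ [0, 3, 29, 30]}
        one_mem' := ⟨Q.one_mem, by rw [h.p_one]; simp⟩
        mul_mem' := by
          rintro a b ⟨ha, pa⟩ ⟨hb, pb⟩
          refine ⟨Q.mul_mem ha hb, ?_⟩
          have := List.all_eq_true.1 hline _ pa
          simp only [Bool.and_eq_true, List.all_eq_true, List.contains_iff_mem] at this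
          rw [h.map_mul a ha b hb]
          exact this.2 _ pb
        inv_mem' := by
          rintro a ⟨ha, pa⟩
          exact ⟨Q.inv_mem ha, by rw [h.p_inv ha]; exact pa⟩ }
    have hM0 : M0 ≤ coreQ Q x := fun a ha => by
      have := List.all_eq_true.1 hline _ ha.2
      simp only [Bool.and_eq_true, List.contains_iff_mem] at this
      exact (mem_core S).2 ⟨ha.1, this.1⟩
    have hcardM : Nat.card M0 = 8 := by
      show Nat.card {a : G // a ∈ Q ∧ p a ∈ [0, 3, 29, 30]} = 8
      rw [CfsgLib.Recog.CoOneFive.card_fibre h (by decide) (by simp)]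
      rfl
    let f0 : M0 →* H := π.comp (Subgroup.inclusion (hM0.trans inf_le_right))
    have hf0 : Function.Injective f0 := fun a b e => by
      obtain ⟨n, hn⟩ := mem_powers_iff_mem_zpowers.2 ((hker ((Subgroup.inclusion (hM0.trans inf_le_right) b)⁻¹ *
        Subgroup.inclusion (hM0.trans inf_le_right) a)).1 (by rw [map_mul, map_inv]; exact inv_mul_eq_one.2 e.symm))
      have hc : x ^ n ∈ compl S := by
        rw [show x ^ n = (b : G)⁻¹ * a from hn]
        have hcore : coreQ Q x ≤ compl S := fun a ha => (mem_compl S).2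
          ⟨⟨h.large.commute_z ha.1, fun b hb _ => h.p_conj_q hb ha.1⟩, mem_centralizer_singleton_iff'.1 ha.2⟩
        exact mul_mem (inv_mem (hcore (hM0 b.2))) (hcore (hM0 a.2))
      refine Subtype.ext (inv_mul_eq_one.1 ?_).symm
      rw [← show x ^ n = (b : G)⁻¹ * a from hn]
      exact compl_inter S hc
    have hline' : ∃ u v, ∀ n < 64, n ^^^ CfsgLib.LocalEvenB.SuzType.app A n ∈ [0, u, v, u ^^^ v] := by
      refine CfsgLib.Recog.SuzThree.exists_moved hpp hAw f0.range ?_ ?_ ?_ ?_
      · rintro _ ⟨a, rfl⟩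
        rw [hR']
        exact ⟨⟨a, hM0 a.2⟩, rfl⟩
      · rw [← Nat.card_congr (MonoidHom.ofInjective hf0).toEquiv, hcardM]
      · obtain ⟨a, ha, pa⟩ := h.surj 3 (by norm_num)
        obtain ⟨b, hb', pb⟩ := h.surj 29 (by norm_num)
        refine ⟨f0 ⟨a, ha, by rw [pa]; simp⟩, ⟨_, rfl⟩, f0 ⟨b, hb', by rw [pb]; simp⟩, ⟨_, rfl⟩, fun e => ?_⟩
        have e' := congrArg Subtype.val (hf0 (a₁ := ⟨a, ha, by rw [pa]; simp⟩ * ⟨b, hb', by rw [pb]; simp⟩)
          (a₂ := ⟨b, hb', by rw [pb]; simp⟩ * ⟨a, ha, by rw [pa]; simp⟩) (by rw [map_mul, map_mul]; exact e))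
        have := (h.commute_iff ha hb').1 e'
        rw [pa, pb, hb] at this
        exact Bool.noConfusion this
      · intro q hq
        rw [hR'] at hq
        obtain ⟨⟨a, ha⟩, rfl⟩ := hq
        have hm : a * w0 * a⁻¹ * w0⁻¹ ∈ M0 := by
          refine ⟨?_, ?_⟩
          · rw [show a * w0 * a⁻¹ * w0⁻¹ = a * (w0 * a⁻¹ * w0⁻¹) by group]
            exact Q.mul_mem ha.1 (h.large.conj_mem hwa.1 (Q.inv_mem ha.1))
          · rw [show a * w0 * a⁻¹ * w0⁻¹ = a * (w0 * a⁻¹ * w0⁻¹) by group,
              h.map_mul _ ha.1 _ (h.large.conj_mem hwa.1 (Q.inv_mem ha.1)), hwa.2 _ (Q.inv_mem ha.1), h.p_inv ha.1]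
            have := List.all_eq_true.1 hmoved _ (List.mem_range.2 (h.lt a ha.1))
            simp only [Bool.and_eq_true, List.contains_iff_mem] at this
            exact this.1
        refine ⟨⟨_, hm⟩, ?_⟩
        let aC : Subgroup.centralizer ({x} : Set G) := ⟨a, ha.2⟩
        show π _ = π aC * π w * (π aC)⁻¹ * (π w)⁻¹
        have e : π (aC * w * aC⁻¹ * w⁻¹) = π aC * π w * (π aC)⁻¹ * (π w)⁻¹ := by
          simp only [map_mul, map_inv]
        exact (congrArg π (Subtype.ext rfl)).trans e
    obtain ⟨ua, va, huv⟩ := hline'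
    obtain ⟨p2, hp2, hor⟩ := CfsgLib.Recog.SuzThree.exists_coords hpp hA.1 hAw hw3' hw1 huv
    let K9 := GaloisField 3 2
    haveI : Fintype K9 := Fintype.ofFinite K9
    have hK9 : Fintype.card K9 = 9 := by rw [Fintype.card_eq_nat_card, GaloisField.card 3 2 (by norm_num)]; rfl
    set Yw := Subgroup.zpowers (π w) with hYw
    have hcent : ∀ t ∈ Subgroup.centralizer (Yw : Set H), Commute t (π w) := fun t ht =>
      (Subgroup.mem_centralizer_iff.1 ht _ (Subgroup.mem_zpowers _)).symm
    haveI : (Yw.subgroupOf (Subgroup.centralizer (Yw : Set H))).Normal := ⟨fun a ha g => by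
      rw [Subgroup.mem_subgroupOf] at ha ⊢
      have hc : Commute (g : H) (a : H) := (Subgroup.mem_centralizer_iff.1 g.2 _ ha).symm
      rw [Subgroup.coe_mul, Subgroup.coe_mul, Subgroup.coe_inv, hc.eq, mul_inv_cancel_right]
      exact ha⟩
    have hperf : commutator ↥(Subgroup.centralizer (Yw : Set H)) = ⊤ := by
      rcases hor with hS | hS
      · exact (CfsgLib.Recog.SuzThree.Std.main (z := z') (Q := R') (p := p2) (y := π w) ⟨hp2, hw3', hS⟩ hn'
          Yw rfl K9 hK9).1.1.commutator_eq_top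
      · have he : Yw = Subgroup.zpowers (π w * π w) := by
          refine le_antisymm (Subgroup.zpowers_le.2 ?_)
            (Subgroup.zpowers_le.2 (mul_mem (Subgroup.mem_zpowers _) (Subgroup.mem_zpowers _)))
          have : π w * π w * (π w * π w) = π w := by
            calc π w * π w * (π w * π w) = π w * π w * π w * π w := by group
              _ = π w := by rw [hw3', one_mul]
          have h2 := mul_mem (Subgroup.mem_zpowers (π w * π w)) (Subgroup.mem_zpowers (π w * π w))
          rwa [this] at h2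
        exact (CfsgLib.Recog.SuzThree.Std.main (z := z') (Q := R') (p := p2) (y := π w * π w)
          ⟨hp2, CfsgLib.Recog.SuzThree.sq_cube hw3', hS⟩ hn' Yw he K9 hK9).1.1.commutator_eq_top
    -- move the commutator structure up
    set KW := K ⊓ Subgroup.centralizer ({w} : Set ↥(Subgroup.centralizer ({x} : Set G))) with hKW
    have hle : Subgroup.centralizer (Yw : Set H) ≤ KW.map π := by
      intro t ht
      obtain ⟨a, ha, rfl⟩ := (hKmap ▸ Subgroup.mem_top t : t ∈ K.map π)
      refine ⟨a, ⟨ha, mem_centralizer_singleton_iff'.2 ?_⟩, rfl⟩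
      have h1 : π (a * w * a⁻¹ * w⁻¹) = 1 := by
        rw [map_mul, map_mul, map_mul, map_inv, map_inv, (hcent _ ht).eq, mul_inv_cancel_right, mul_inv_cancel]
      have := htriv _ h1 (mul_mem (mul_mem (mul_mem ha hwK) (inv_mem ha)) (inv_mem hwK))
      exact mul_inv_eq_iff_eq_mul.1 (mul_inv_eq_one.1 this)
    have hwin : π w ∈ (⁅KW, KW⁆).map π := by
      rw [Subgroup.map_commutator]
      refine Subgroup.commutator_mono hle hle ?_
      have hmem' : (⟨π w, Subgroup.mem_centralizer_iff.2 fun a ha => by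
          obtain ⟨j, rfl⟩ := Subgroup.mem_zpowers_iff.1 ha
          exact ((Commute.refl (π w)).zpow_left j).eq⟩ : ↥(Subgroup.centralizer (Yw : Set H))) ∈
          commutator ↥(Subgroup.centralizer (Yw : Set H)) := hperf ▸ Subgroup.mem_top _
      have := Subgroup.mem_map_of_mem (Subgroup.centralizer (Yw : Set H)).subtype hmem'
      rwa [commutator_def, Subgroup.map_commutator, ← MonoidHom.range_eq_map, Subgroup.range_subtype] at this
    obtain ⟨t, ht, hte⟩ := hwin
    have htK : t ∈ K := by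
      have h' : ⁅KW, KW⁆ ≤ K := by
        rw [hKdef, commutator_def]; exact Subgroup.commutator_mono le_top le_top
      exact h' ht
    have htw : t = w := inv_mul_eq_one.1 (htriv (t⁻¹ * w) (by rw [map_mul, map_inv, hte, inv_mul_cancel])
      (mul_mem (inv_mem htK) hwK))
    rw [htw] at ht
    -- to the group
    have hwcom : w0 ∈ ⁅Subgroup.centralizer ({w0} : Set G), Subgroup.centralizer ({w0} : Set G)⁆ := by
      have hsub : KW.map (Subgroup.centralizer ({x} : Set G)).subtype ≤ Subgroup.centralizer ({w0} : Set G) := by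
        rintro _ ⟨a, ha, rfl⟩
        exact mem_centralizer_singleton_iff'.2 (congrArg Subtype.val (mem_centralizer_singleton_iff'.1 ha.2))
      have := Subgroup.mem_map_of_mem (Subgroup.centralizer ({x} : Set G)).subtype ht
      rw [Subgroup.map_commutator] at this
      exact Subgroup.commutator_mono hsub hsub this
    have hconj : (Subgroup.centralizer ({w0} : Set G)).map (MulAut.conj c).toMonoidHom ≤
        Subgroup.centralizer ({x} : Set G) := by
      rintro _ ⟨a, ha, rfl⟩
      refine hmem ?_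
      show c * a * c⁻¹ * x = x * (c * a * c⁻¹)
      rw [← hcw]
      calc c * a * c⁻¹ * (c * w0 * c⁻¹) = c * (a * w0) * c⁻¹ := by group
        _ = _ := by rw [mem_centralizer_singleton_iff'.1 ha]; group
    have hxG : x ∈ ⁅Subgroup.centralizer ({x} : Set G), Subgroup.centralizer ({x} : Set G)⁆ := by
      refine Subgroup.commutator_mono hconj hconj ?_
      rw [← Subgroup.map_commutator]
      exact ⟨w0, hwcom, hcw⟩
    refine hxno ?_
    have e : ⁅Subgroup.centralizer ({x} : Set G), Subgroup.centralizer ({x} : Set G)⁆ =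
        K.map (Subgroup.centralizer ({x} : Set G)).subtype := by
      rw [hKdef, commutator_def, Subgroup.map_commutator, ← MonoidHom.range_eq_map, Subgroup.range_subtype]
    rw [e] at hxG
    obtain ⟨a, ha, hae⟩ := hxG
    exact (Subtype.ext hae : a = xC) ▸ ha
  have hKtop : K = ⊤ := by
    refine eq_top_iff.2 fun c _ => ?_
    obtain ⟨a, ha, n, hn, rfl⟩ := hsplit c
    refine mul_mem ha ?_
    rcases hpow n hn with e | e | e <;> rw [e]
    exacts [one_mem _, hxin, mul_mem hxin hxin]
  have hcen : Subgroup.center ↥(Subgroup.centralizer ({x} : Set G)) = π.ker := by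
    refine le_antisymm (fun a ha => ?_) fun a ha => ?_
    · have hbot : Subgroup.center H = ⊥ := by
        refine (Subgroup.Normal.eq_bot_or_eq_top inferInstance).resolve_right fun ht => hnab fun a b => ?_
        exact Subgroup.mem_center_iff.1 (ht ▸ Subgroup.mem_top b : b ∈ Subgroup.center H) a
      rw [MonoidHom.mem_ker, ← Subgroup.mem_bot, ← hbot, Subgroup.mem_center_iff]
      intro t
      obtain ⟨b, rfl⟩ := hsurj t
      rw [← map_mul, ← map_mul, Subgroup.mem_center_iff.1 ha b]
    · rw [MonoidHom.mem_ker] at ha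
      rw [Subgroup.mem_center_iff]
      intro b
      refine Subtype.ext ?_
      obtain ⟨i, hi⟩ := mem_powers_iff_mem_zpowers.2 ((hker a).1 ha)
      show (b : G) * a = a * b
      rw [← show x ^ i = (a : G) from hi]
      exact ((hcx b).pow_right i).eq
  refine ⟨⟨hKtop⟩, ?_⟩
  exact ((QuotientGroup.quotientMulEquivOfEq hcen).trans
    (QuotientGroup.quotientKerEquivOfSurjective π hsurj)).isSimpleGroup

end CfsgLib.Recog.CoOneThree
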