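import Cfsg.Agent.Lib.Recog.CoOneThree.Cent
import Cfsg.Agent.Lib.LocalEvenB.SuzType.Create
import Cfsg.Agent.Lib.ThreeTrans.LargeCriteria

set_option autoImplicit false
set_option linter.unusedSectionVars false
set_option maxRecDepth 100000
set_option Elab.async false

/-!
The centraliser of the element of order three modulo that element is of Suzuki type (owner: helper22).
-/

namespace CfsgLib.Recog.CoOneThree

open CfsgLib.Recog.CoOneType CfsgLib.ThreeTrans

theorem fix0_facts : fix0.contains 1 = true ∧ fix0.contains 2 = true ∧ bb 1 2 = true ∧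
    (one.all fun n => fix0.any fun m => [0, 12, 52, 56].any fun t => n == m ^^^ t) = true := by
  refine ⟨?_, ?_, ?_, ?_⟩ <;> decide +kernel

variable {G : Type*} [Group G] [Finite G] {z : G} {Q : Subgroup G} {p : G → Nat} {k x : G} (S : Std z Q p k x)
include S

theorem core_central {y : G} (hy : y ∈ coreQ Q x) (hc : ∀ w ∈ coreQ Q x, Commute w y) :
    y ∈ Subgroup.zpowers z := by
  have h := S.frame.sys
  obtain ⟨hyQ, hyf⟩ := (mem_core S).1 hy
  have h0 : p y = 0 := by
    have hnd := List.all_eq_true.1 rot0_facts.2.2.2.2.2.2.2 _ hyf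
    simp only [Bool.or_eq_true, beq_iff_eq, List.any_eq_true] at hnd
    rcases hnd with e | ⟨m, hm, e⟩
    · exact e
    exfalso
    obtain ⟨w, hw, rfl⟩ := h.surj m (List.mem_range.1 (List.mem_filter.1 hm).1)
    have := (h.commute_iff hyQ hw).1 (hc w ((mem_core S).2 ⟨hw, hm⟩)).symm
    rw [e] at this
    exact Bool.noConfusion this
  rcases h.ker y hyQ h0 with e | e
  · exact e ▸ one_mem _
  · exact e ▸ Subgroup.mem_zpowers z

theorem extraspecial_core : Cfsg.IsExtraspecial 2 ↥(coreQ Q x) := by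
  have h := S.frame.sys
  obtain ⟨f1, f2, hb, -⟩ := fix0_facts
  obtain ⟨a, ha, pa⟩ := h.surj 1 (by norm_num)
  obtain ⟨b, hb', pb⟩ := h.surj 2 (by norm_num)
  refine h.large.isExtraspecial_sub (inf_le_left : coreQ Q x ≤ Q) ⟨a, (mem_core S).2 ⟨ha, pa ▸ List.contains_iff_mem.1 f1⟩,
    b, (mem_core S).2 ⟨hb', pb ▸ List.contains_iff_mem.1 f2⟩, fun e => ?_⟩ fun y hy hc => core_central S hy hc
  have := (h.commute_iff ha hb').1 e
  rw [pa, pb, hb] at this
  exact Bool.noConfusion this

variable {H : Type*} [Group H] [Finite H]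

theorem quot_hyp (π : Subgroup.centralizer ({x} : Set G) →* H) (hsurj : Function.Surjective π)
    (hker : ∀ c, π c = 1 ↔ (c : G) ∈ Subgroup.zpowers x) :
    ∃ (w : H) (R : Subgroup H), CfsgLib.LocalEvenB.SuzType.Hyp w R ∧ (∃ g : H, g * w * g⁻¹ ∈ R ∧ g * w * g⁻¹ ≠ w) ∧
      (∀ hz, w = π ⟨z, hz⟩) ∧
      R = (π.comp (Subgroup.inclusion (inf_le_right : coreQ Q x ≤ Subgroup.centralizer ({x} : Set G)))).range := by
  classical
  have h := S.frame.sys
  have hzz := h.large.mul_self_z
  have hx3 : x ^ 3 = 1 := by rw [pow_succ, pow_two, S.cube]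
  have hmem : ∀ {c : G}, Commute c x → c ∈ Subgroup.centralizer ({x} : Set G) := fun hc =>
    mem_centralizer_singleton_iff'.2 hc
  have hcx : ∀ c : Subgroup.centralizer ({x} : Set G), Commute (c : G) x := fun c =>
    mem_centralizer_singleton_iff'.1 c.2
  have heq : ∀ a b : Subgroup.centralizer ({x} : Set G), π a = π b → ∃ n : ℕ, (a : G) = b * x ^ n := by
    intro a b e
    have h1 : π (b⁻¹ * a) = 1 := by rw [map_mul, map_inv, e, inv_mul_cancel]
    obtain ⟨n, hn⟩ := mem_powers_iff_mem_zpowers.2 ((hker _).1 h1)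
    exact ⟨n, by rw [show x ^ n = ((b : G))⁻¹ * a from hn, mul_inv_cancel_left]⟩
  have hunique : ∀ a b : Subgroup.centralizer ({x} : Set G), (a : G) * a = 1 → (b : G) * b = 1 → π a = π b →
      (a : G) = b := by
    intro a b ha hb e
    obtain ⟨n, hn⟩ := heq a b e
    rw [hn, show (b : G) * x ^ n * ((b : G) * x ^ n) = b * (x ^ n * b) * x ^ n by group,
      ← ((hcx b).pow_right n).eq, ← mul_assoc, hb, one_mul, ← pow_add] at ha
    rw [hn, show x ^ n = x ^ (4 * n) by
        rw [show 4 * n = 3 * n + n by ring, pow_add, pow_mul, hx3, one_pow, one_mul],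
      show 4 * n = n + n + (n + n) by ring, pow_add, ha, one_mul, mul_one]
  have hinj : ∀ a b : Subgroup.centralizer ({x} : Set G), (a : G) ∈ compl S → (b : G) ∈ compl S → π a = π b →
      a = b := by
    intro a b ha hb e
    obtain ⟨n, hn⟩ := heq a b e
    have hn1 : x ^ n = 1 := compl_inter S (by
      rw [show x ^ n = (b : G)⁻¹ * a by rw [hn, inv_mul_cancel_left]]
      exact mul_mem (inv_mem hb) ha)
    exact Subtype.ext (by rw [hn, hn1, mul_one])
  let zC : Subgroup.centralizer ({x} : Set G) := ⟨z, hmem S.act.1.symm⟩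
  have hlift : ∀ c, π c * π zC = π zC * π c → Commute (c : G) z := by
    intro c hc
    have e : (c : G) * z * (c : G)⁻¹ = z := hunique (c * zC * c⁻¹) zC
      (by show (c : G) * z * (c : G)⁻¹ * ((c : G) * z * (c : G)⁻¹) = 1; exact conj_sq_one hzz _) hzz
      (by rw [map_mul, map_mul, map_inv, hc, mul_inv_cancel_right])
    exact mul_inv_eq_iff_eq_mul.1 e
  have hcore : coreQ Q x ≤ compl S := fun a ha => (mem_compl S).2
    ⟨⟨h.large.commute_z ha.1, fun b hb _ => h.p_conj_q hb ha.1⟩, mem_centralizer_singleton_iff'.1 ha.2⟩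
  let f : coreQ Q x →* H := π.comp (Subgroup.inclusion (inf_le_right : coreQ Q x ≤ Subgroup.centralizer ({x} : Set G)))
  have hf : Function.Injective f := fun a b e =>
    Subtype.ext (congrArg (fun c : Subgroup.centralizer ({x} : Set G) => (c : G))
      (hinj (Subgroup.inclusion inf_le_right a) (Subgroup.inclusion inf_le_right b) (hcore a.2) (hcore b.2) e))
  have hzcore : z ∈ coreQ Q x := ⟨h.large.z_mem, hmem S.act.1.symm⟩
  have hfz : f ⟨z, hzcore⟩ = π zC := rfl
  haveI : Fact (Nat.Prime 2) := ⟨Nat.prime_two⟩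
  have hE : Cfsg.IsExtraspecial 2 ↥f.range :=
    CfsgLib.ThreeTrans.isExtraspecial_congr (extraspecial_core S) (MonoidHom.ofInjective hf)
  have hord : orderOf (π zC) = 2 := by
    rw [← hfz, orderOf_injective f hf, ← Subgroup.orderOf_coe]
    exact h.large.hz
  have hcentral : ∀ a : coreQ Q x, Commute (f a) (π zC) := fun a => by
    rw [← hfz]
    show f a * f _ = f _ * f a
    rw [← map_mul, ← map_mul]
    exact congrArg f (Subtype.ext (h.large.commute_z a.2.1).eq)
  have hzpow : ∀ a : coreQ Q x, (a : G) ∈ Subgroup.zpowers z → f a ∈ Subgroup.zpowers (π zC) := by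
    intro a ha
    rcases h.large.eq_or ha with e | e
    · rw [show a = 1 from Subtype.ext e, map_one]; exact one_mem _
    · rw [show a = ⟨z, hzcore⟩ from Subtype.ext e, hfz]; exact Subgroup.mem_zpowers _
  refine ⟨π zC, f.range, ⟨⟨hord, hE, ?_, ?_, ?_⟩, ?_, ?_⟩, ?_, fun _ => rfl, rfl⟩
  · -- the centre
    refine le_antisymm ?_ (Subgroup.zpowers_le.2 ⟨⟨π zC, ⟨_, hfz⟩⟩, ?_, rfl⟩)
    · rintro _ ⟨⟨_, ⟨a, rfl⟩⟩, hc, rfl⟩
      refine hzpow a (core_central S a.2 fun w hw => ?_)
      have := Subgroup.mem_center_iff.1 hc ⟨f ⟨w, hw⟩, ⟨_, rfl⟩⟩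
      have e : f (⟨w, hw⟩ * a) = f (a * ⟨w, hw⟩) := by
        rw [map_mul, map_mul]; exact congrArg Subtype.val this
      exact congrArg Subtype.val (hf e)
    · refine Subgroup.mem_center_iff.2 ?_
      rintro ⟨_, ⟨a, rfl⟩⟩
      exact Subtype.ext (hcentral a).eq
  · -- the centraliser of the core
    refine le_antisymm (fun t ht => ?_) (Subgroup.zpowers_le.2 (Subgroup.mem_centralizer_iff.2 ?_))
    · rw [Subgroup.mem_centralizer_iff] at ht
      obtain ⟨c, rfl⟩ := hsurj t
      have hcz := hlift c (ht _ ⟨_, hfz⟩).symm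
      obtain ⟨i, -, s, hs, hcs⟩ := exists_pow_mul S hcz (hcx c)
      let sC : Subgroup.centralizer ({x} : Set G) := ⟨s, hmem ((mem_compl S).1 hs).2⟩
      have hπ : π c = π sC := by
        have hi : π ⟨x ^ i, hmem (Commute.pow_self x i)⟩ = 1 := (hker _).2 (Subgroup.npow_mem_zpowers x i)
        rw [show c = ⟨x ^ i, hmem (Commute.pow_self x i)⟩ * sC from Subtype.ext hcs, map_mul, hi, one_mul]
      have hsc : ∀ a ∈ coreQ Q x, Commute s a := by
        intro a ha
        let aC : Subgroup.centralizer ({x} : Set G) := ⟨a, ha.2⟩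
        have e := hinj (sC * aC) (aC * sC) (mul_mem hs (hcore ha)) (mul_mem (hcore ha) hs) (by
          rw [map_mul, map_mul, ← hπ]
          exact (ht _ ⟨⟨a, ha⟩, rfl⟩).symm)
        exact congrArg Subtype.val e
      have hsz := ((mem_compl S).1 hs).1
      obtain ⟨W, hW, hsW⟩ := h.exists_acts hsz.1
      obtain ⟨w12, w52⟩ := (stab_iff S hsW).1 hsz
      have hW1 : W = one := eq_of_app hW.1 rfl fun n hn => by
        have hsp := List.all_eq_true.1 fix0_facts.2.2.2 n hn
        simp only [List.any_eq_true, beq_iff_eq] at hsp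
        obtain ⟨m, hm, t, ht', rfl⟩ := hsp
        have hm256 : m < 256 := List.mem_range.1 (List.mem_filter.1 hm).1
        have hwm : app W m = m := by
          obtain ⟨a, ha, rfl⟩ := h.surj m hm256
          rw [← hsW.2 a ha, (hsc a ((mem_core S).2 ⟨ha, hm⟩)).eq, mul_inv_cancel_right]
        have hwt : app W t = t ∧ t < 256 := by
          simp only [List.mem_cons, List.not_mem_nil, or_false] at ht'
          rcases ht' with rfl | rfl | rfl | rfl
          · exact ⟨app_zero W, by norm_num⟩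
          · exact ⟨w12, by norm_num⟩
          · exact ⟨w52, by norm_num⟩
          · refine ⟨?_, by norm_num⟩
            rw [show (56 : ℕ) = 12 ^^^ 52 from rfl, app_xor, w12, w52]
        rw [app_xor, hwm, hwt.1, app_one _ (lt_xor hm256 hwt.2)]
      have hsQ : s ∈ coreQ Q x := ⟨h.mem_of_acts_one (hW1 ▸ hsW), hmem ((mem_compl S).1 hs).2⟩
      rw [hπ]
      exact hzpow ⟨s, hsQ⟩ (core_central S hsQ fun w hw => (hsc w hw).symm)
    · rintro _ ⟨a, rfl⟩
      exact (hcentral a).eq
  · -- normalisation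
    have key : ∀ t, t * π zC = π zC * t → ∀ q ∈ f.range, t * q * t⁻¹ ∈ f.range := by
      rintro t ht _ ⟨a, rfl⟩
      obtain ⟨c, rfl⟩ := hsurj t
      have hcz := hlift c ht
      exact ⟨⟨(c : G) * a * (c : G)⁻¹, h.large.conj_mem hcz a.2.1,
        hmem (((hcx c).mul_left (mem_centralizer_singleton_iff'.1 a.2.2)).mul_left (hcx c).inv_left)⟩, by
          show π _ = π c * π _ * (π c)⁻¹
          rw [← map_inv, ← map_mul, ← map_mul]; rfl⟩
    intro t ht
    have ht' := mem_centralizer_singleton_iff'.1 ht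
    refine Subgroup.mem_normalizer_iff.2 fun q => ⟨key t ht' q, fun hq => ?_⟩
    have := key t⁻¹ (show Commute t (π zC) from ht').inv_left.eq _ hq
    rwa [show t⁻¹ * (t * q * t⁻¹) * t⁻¹⁻¹ = q by group] at this
  · rw [← Nat.card_congr (MonoidHom.ofInjective hf).toEquiv, card_core S]
  · rw [show (2 : ℕ) ^ 7 * 25920 = 128 * 25920 by norm_num, ← card_compl S]
    have hcomm : ∀ s : compl S, Commute (s : G) z ∧ Commute (s : G) x := fun s =>
      ⟨((mem_compl S).1 s.2).1.1, ((mem_compl S).1 s.2).2⟩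
    symm
    refine Nat.card_congr (Equiv.ofBijective (fun s : compl S =>
      (⟨π ⟨s, hmem (hcomm s).2⟩, mem_centralizer_singleton_iff'.2 ?_⟩ : Subgroup.centralizer ({π zC} : Set H))) ⟨?_, ?_⟩)
    · show π ⟨s, _⟩ * π zC = π zC * π ⟨s, _⟩
      rw [← map_mul, ← map_mul]
      exact congrArg π (Subtype.ext (hcomm s).1.eq)
    · intro a b e
      exact Subtype.ext (congrArg (fun c : Subgroup.centralizer ({x} : Set G) => (c : G))
        (hinj _ _ a.2 b.2 (congrArg Subtype.val e)))
    · rintro ⟨t, ht⟩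
      obtain ⟨c, rfl⟩ := hsurj t
      obtain ⟨i, -, s, hs, hcs⟩ := exists_pow_mul S (hlift c (mem_centralizer_singleton_iff'.1 ht)) (hcx c)
      refine ⟨⟨s, hs⟩, Subtype.ext ?_⟩
      have hi : π ⟨x ^ i, hmem (Commute.pow_self x i)⟩ = 1 := (hker _).2 (Subgroup.npow_mem_zpowers x i)
      show π _ = π c
      rw [show c = ⟨x ^ i, hmem (Commute.pow_self x i)⟩ * ⟨s, hmem ((mem_compl S).1 hs).2⟩ from Subtype.ext hcs,
        map_mul, hi, one_mul]
  · obtain ⟨g, hgx, hgQ, hgne⟩ := S.exists_swap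
    let gC : Subgroup.centralizer ({x} : Set G) := ⟨g, hmem hgx.symm⟩
    refine ⟨π gC, ⟨⟨g * z * g⁻¹, hgQ, hmem ((hgx.symm.mul_left S.act.1.symm).mul_left hgx.symm.inv_left)⟩, ?_⟩, fun e => ?_⟩
    · show π _ = π gC * π zC * (π gC)⁻¹
      rw [← map_inv, ← map_mul, ← map_mul]; rfl
    · refine hgne (hunique (gC * zC * gC⁻¹) zC ?_ hzz ?_)
      · show g * z * g⁻¹ * (g * z * g⁻¹) = 1
        exact conj_sq_one hzz g
      · rw [map_mul, map_mul, map_inv]; exact e

end CfsgLib.Recog.CoOneThree
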